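/-
Transitive groups of prime degree `p` with a single character of degree `p` and a TI complement:
the abstract data.
-/
import Cfsg.Agent.S0157
import Cfsg.Agent.Lib.Perm.Burnside
import Cfsg.Agent.Lib.DoublyPrim.Reduce
import Cfsg.Agent.Lib.Blocks.Congr
import Cfsg.Agent.Lib.Char.GlaubermanMod
import Cfsg.Agent.Lib.Char.ChiefRestrict

set_option linter.unusedSectionVars false
set_option linter.style.haveILetI false

namespace Cfsg.Agent.UniqueDegree

open Cfsg Cfsg.Agent.Char Cfsg.Agent.Blocks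

universe u

/-- The abstract data. -/
structure Data {G : Type u} [Group G] [Fintype G] (p : ℕ) (P E : Subgroup G) : Prop where
  hp : p.Prime
  hP : Nat.card P = p
  hsq : ¬ p ^ 2 ∣ Nat.card G
  hC : ∀ y ∈ P, y ≠ 1 → ∀ g, g * y = y * g → g ∈ P
  hN : P ⊔ E = Subgroup.normalizer (P : Set G)
  hPE : P ⊓ E = ⊥
  hcyc : IsCyclic E
  he : Nat.card E ∣ p - 1
  he2 : 2 ≤ Nat.card E
  hM : Nat.card (Subgroup.normalizer (E : Set G)) = 2 * Nat.card E
  hTI : ∀ g : G, g ∉ Subgroup.normalizer (E : Set G) →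
    E ⊓ E.map (MulAut.conj g).toMonoidHom = ⊥
  hidx : ∃ H : Subgroup G, H.index = p
  hfact : Nat.card G ∣ p.factorial
  huniq : ∃! χ : IrrCharacter G, charDegree (χ : G → ℂ) = p
  hsimple : IsSimpleGroup G
  hnc : ¬ IsMulCommutative G
  htheta : ∃ θ : IrrCharacter G, (θ : G → ℂ) 1 = (p : ℂ) - 1 ∧
    (∀ y ∈ P, y ≠ 1 → (θ : G → ℂ) y = -1) ∧ ∀ x ∈ E, x ≠ 1 → (θ : G → ℂ) x = 0

variable {α : Type u} [Fintype α] [DecidableEq α] {p : ℕ} [hpF : Fact p.Prime]

theorem card_dvd_factorial (hα : Fintype.card α = p) (G : Subgroup (Equiv.Perm α)) :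
    Nat.card G ∣ p.factorial := by
  have := G.card_subgroup_dvd_card
  rwa [Nat.card_perm, Nat.card_eq_fintype_card (α := α), hα] at this

theorem sq_not_dvd (hα : Fintype.card α = p) (G : Subgroup (Equiv.Perm α)) :
    ¬ p ^ 2 ∣ Nat.card G := fun h => by
  have h1 : p ^ 2 ∣ p.factorial := h.trans (card_dvd_factorial hα G)
  rw [← Nat.mul_factorial_pred hpF.out.ne_zero, sq] at h1
  have := hpF.out.dvd_factorial.1 ((mul_dvd_mul_iff_left hpF.out.ne_zero).1 h1)
  have := hpF.out.two_le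
  omega

open MulAction in
/-- The data of a permutation group as in the statement. -/
theorem data_of_perm (hα : Fintype.card α = p) (G : Subgroup (Equiv.Perm α)) [Fintype G]
    [IsPretransitive G α] (huniq : ∃! χ : IrrCharacter G, charDegree (χ : G → ℂ) = p)
    (P : Sylow p G) (E : Subgroup G)
    (hPE : (P : Subgroup G) ⊔ E = Subgroup.normalizer ((P : Subgroup G) : Set G))
    (hPE' : (P : Subgroup G) ⊓ E = ⊥)
    (hNE : Nat.card (Subgroup.normalizer (E : Set G)) = 2 * Nat.card E)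
    (hTI : ∀ g : G, g ∉ Subgroup.normalizer (E : Set G) →
      E ⊓ E.map (MulAut.conj g).toMonoidHom = ⊥) :
    Data p (P : Subgroup G) E := by
  classical
  have hp := hpF.out
  have hαn : Nat.card α = p := by rw [Nat.card_eq_fintype_card, hα]
  haveI : Nonempty α := Fintype.card_pos_iff.1 (hα ▸ hp.pos)
  obtain ⟨a⟩ : Nonempty α := inferInstance
  have hpG : p ∣ Nat.card G := by
    rw [← hαn, ← index_stabilizer_of_transitive (G := G) a]
    exact ⟨_, (Subgroup.index_mul_card _).symm⟩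
  have hsq := sq_not_dvd hα G
  set Q : Subgroup G := (P : Subgroup G) with hQ
  have hP : Nat.card Q = p := by
    obtain ⟨j, hj⟩ := P.2.exists_card_eq
    have h1 : p ∣ Nat.card Q := P.dvd_card_of_dvd_card hpG
    have h2 : p ^ j ∣ Nat.card G := hj ▸ Subgroup.card_subgroup_dvd_card Q
    rcases (show j = 0 ∨ j = 1 ∨ 2 ≤ j by omega) with h | h | h
    · rw [hj, h, pow_zero, Nat.dvd_one] at h1; exact absurd h1 hp.ne_one
    · rw [hj, h, pow_one]
    · exact absurd ((pow_dvd_pow p h).trans h2) hsq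
  -- `Q` is regular
  have hfree : ∀ y ∈ Q, ∀ b : α, y • b = b → y = 1 := by
    intro y hy b hb
    by_contra hy1
    have hord : orderOf y = p := (hp.eq_one_or_self_of_dvd _
      ((Subgroup.orderOf_dvd_natCard Q hy).trans hP.dvd)).resolve_left
      fun h => hy1 (orderOf_eq_one_iff.1 h)
    refine hy1 (eq_of_smul_eq_smul (α := α) fun c => ?_)
    rw [one_smul]
    have hc : Nat.card (orbit (Subgroup.zpowers y) c) ∣ p := by
      rw [← hord, ← Nat.card_zpowers, ← Subgroup.card_mul_index (stabilizer (Subgroup.zpowers y) c),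
        index_stabilizer, Nat.card_coe_set_eq]
      exact dvd_mul_left _ _
    rcases hp.eq_one_or_self_of_dvd _ hc with h | h
    · rw [Nat.card_eq_one_iff_unique] at h
      obtain ⟨h, -⟩ := h
      exact congrArg Subtype.val (Subsingleton.elim
        (⟨(⟨y, Subgroup.mem_zpowers y⟩ : Subgroup.zpowers y) • c, mem_orbit _ _⟩ :
          orbit (Subgroup.zpowers y) c) ⟨c, mem_orbit_self c⟩)
    · exfalso
      have huniv : orbit (Subgroup.zpowers y) c = Set.univ := Set.eq_of_subset_of_ncard_le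
        (Set.subset_univ _) (by rw [Set.ncard_univ, hαn, ← Nat.card_coe_set_eq, h]) Set.finite_univ
      obtain ⟨⟨g, hg⟩, hgc : g • c = b⟩ := (huniv ▸ Set.mem_univ b : b ∈ orbit (Subgroup.zpowers y) c)
      obtain ⟨i, rfl⟩ := Subgroup.mem_zpowers_iff.1 hg
      have hcy : y • c = c := by
        have h2 : y • (y ^ i • c) = y ^ i • c := by rw [hgc, hb]
        rw [smul_smul, ← zpow_one_add, add_comm, zpow_add_one, ← smul_smul] at h2
        exact smul_left_cancel _ h2
      have hst : orbit (Subgroup.zpowers y) c = {c} := by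
        ext d
        constructor
        · rintro ⟨⟨g, hg⟩, rfl⟩
          obtain ⟨j, rfl⟩ := Subgroup.mem_zpowers_iff.1 hg
          have : y ^ j ∈ stabilizer G c := zpow_mem (mem_stabilizer_iff.2 hcy) j
          exact Set.mem_singleton_iff.2 (mem_stabilizer_iff.1 this)
        · rintro rfl; exact mem_orbit_self _
      rw [Nat.card_coe_set_eq, hst, Set.ncard_singleton] at h
      exact hp.ne_one h.symm
  have hreg : Function.Bijective (fun y : Q => (y : G) • a) :=
    (Nat.bijective_iff_injective_and_card _).2 ⟨fun x y (e : (x : G) • a = (y : G) • a) => by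
      have h := hfree _ (Q.mul_mem (Q.inv_mem y.2) x.2) a (by rw [mul_smul, e, inv_smul_smul])
      exact Subtype.ext (inv_mul_eq_one.1 h).symm, hP.trans hαn.symm⟩
  have hC : ∀ y ∈ Q, y ≠ 1 → ∀ g, g * y = y * g → g ∈ Q := by
    intro y hy hy1 g hg
    obtain ⟨⟨z, hz⟩, hza : z • a = g • a⟩ := hreg.2 (g • a)
    suffices z⁻¹ * g = 1 by rw [inv_mul_eq_one] at this; exact this ▸ hz
    have hzy : z * y = y * z := by
      haveI : IsCyclic Q := isCyclic_of_prime_card hP
      letI := IsCyclic.commGroup (α := Q)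
      exact congrArg Subtype.val (mul_comm (⟨z, hz⟩ : Q) ⟨y, hy⟩)
    have hcomm : ∀ w ∈ Q, (z⁻¹ * g) * w = w * (z⁻¹ * g) := by
      intro w hw
      obtain ⟨i, hi⟩ := Subgroup.mem_zpowers_iff.1
        (mem_zpowers_of_prime_card hP (g := (⟨y, hy⟩ : Q)) (g' := ⟨w, hw⟩)
          fun h => hy1 (congrArg Subtype.val h))
      have hi' : y ^ i = w := by simpa using congrArg Subtype.val hi
      rw [← hi']
      exact ((show Commute z y from hzy).inv_left.mul_left hg).zpow_right i
    refine eq_of_smul_eq_smul (α := α) fun c => ?_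
    obtain ⟨⟨w, hw⟩, rfl : w • a = c⟩ := hreg.2 c
    rw [one_smul, smul_smul, hcomm w hw, mul_smul, mul_smul, ← hza, inv_smul_smul]
  have hC' : ∀ x ∈ E, (∀ y ∈ Q, x * y = y * x) → x = 1 := by
    intro x hx h
    obtain ⟨⟨y, hy⟩, hy1⟩ : ∃ y : Q, y ≠ 1 := by
      haveI : Nontrivial Q := Finite.one_lt_card_iff_nontrivial.1 (hP ▸ hp.one_lt)
      exact exists_ne 1
    have hxQ := hC y hy (fun h => hy1 (Subtype.ext h)) x (h y hy)
    have : x ∈ Q ⊓ E := ⟨hxQ, hx⟩
    rwa [hPE', Subgroup.mem_bot] at this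
  have hEN : E ≤ Subgroup.normalizer (Q : Set G) := hPE ▸ le_sup_right
  -- `E` embeds in the automorphisms of `Q`
  let φ : E →* MulAut Q := (Subgroup.normalizerMonoidHom Q).comp (Subgroup.inclusion hEN)
  have hφ : Function.Injective φ := by
    refine (injective_iff_map_eq_one φ).2 fun x hx => Subtype.ext (hC' _ x.2 fun y hy => ?_)
    have h : (x : G) * y * (x : G)⁻¹ = y :=
      congrArg (fun f : MulAut Q => ((f ⟨y, hy⟩ : Q) : G)) hx
    exact mul_inv_eq_iff_eq_mul.1 h
  haveI hQc : IsCyclic Q := isCyclic_of_prime_card hP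
  have he : Nat.card E ∣ p - 1 := by
    have h := Subgroup.card_dvd_of_injective φ hφ
    rwa [IsCyclic.card_mulAut, hP, Nat.totient_prime hp] at h
  haveI hcyc : IsCyclic E := by
    haveI : Fact (Nat.card Q).Prime := ⟨hP ▸ hp⟩
    haveI : IsCyclic (ZMod (Nat.card Q))ˣ := inferInstance
    haveI : IsCyclic (MulAut Q) := isCyclic_of_surjective
      (IsCyclic.mulAutMulEquiv Q).symm.toMonoidHom (IsCyclic.mulAutMulEquiv Q).symm.surjective
    exact isCyclic_of_injective φ hφ
  obtain ⟨ψ, hψ, hψu⟩ := id huniq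
  have hψ1 : (ψ : G → ℂ) 1 = (p : ℂ) := by rw [irr_one_eq_charDegree, hψ]
  have hdeg2 : p ^ 2 ≤ Nat.card G := by
    have h := sum_sq_degree (G := G)
    have h2 : ((∑ χ : IrrCharacter G, charDegree (χ : G → ℂ) ^ 2 : ℕ) : ℂ) = (Nat.card G : ℂ) := by
      rw [← h]; push_cast; simp only [irr_one_eq_charDegree]
    rw [← Nat.cast_inj (R := ℂ) |>.1 h2, ← hψ]
    exact Finset.single_le_sum (f := fun χ : IrrCharacter G => charDegree (χ : G → ℂ) ^ 2)
      (fun _ _ => Nat.zero_le _) (Finset.mem_univ ψ)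
  have he2 : 2 ≤ Nat.card E := by
    by_contra h
    have h1 : Nat.card E = 1 := by have := Nat.card_pos (α := E); omega
    have hbot : E = ⊥ := Subgroup.card_eq_one.1 h1
    rw [h1, hbot, show Subgroup.normalizer ((⊥ : Subgroup G) : Set G) = ⊤ from
      Subgroup.normalizer_eq_top_iff.2 inferInstance, Subgroup.card_top] at hNE
    rw [hNE] at hdeg2
    have := Nat.pow_le_pow_left hp.two_le 2
    omega
  -- simplicity
  haveI hnt : Nontrivial G := Finite.one_lt_card_iff_nontrivial.1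
    (lt_of_lt_of_le (by have := hp.two_le; nlinarith) hdeg2)
  have hsimple : IsSimpleGroup G := by
    refine ⟨fun S hS => ?_⟩
    by_contra hne
    push Not at hne
    obtain ⟨hS1, hS2⟩ := hne
    haveI := hS
    haveI := DoublyPrim.normal_transitive hp hαn G S hS1
    have hpS : p ∣ Nat.card S := by
      rw [← hαn, ← index_stabilizer_of_transitive (G := S) a]
      exact ⟨_, (Subgroup.index_mul_card _).symm⟩
    have hQS : Q ≤ S := by
      intro y hy
      by_contra hyS
      refine hsq ?_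
      rw [← Subgroup.card_mul_index S, sq]
      refine mul_dvd_mul hpS ?_
      have h1 : orderOf (QuotientGroup.mk y : G ⧸ S) = p := by
        refine (hp.eq_one_or_self_of_dvd _ ?_).resolve_left fun h => hyS ?_
        · exact (orderOf_map_dvd (QuotientGroup.mk' S) y).trans
            ((Subgroup.orderOf_dvd_natCard Q hy).trans hP.dvd)
        · rwa [orderOf_eq_one_iff, QuotientGroup.eq_one_iff] at h
      rw [Subgroup.index_eq_card, ← h1]
      exact orderOf_dvd_natCard _
    have hgen : E ⊔ S = ⊤ := by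
      rw [eq_top_iff, ← Sylow.normalizer_sup_eq_top' P hQS]
      show Subgroup.normalizer (Q : Set G) ⊔ S ≤ _
      rw [← hPE]
      exact sup_le (sup_le (hQS.trans le_sup_right) le_sup_left) le_sup_right
    have hsurj : ∀ z : G ⧸ S, ∃ x ∈ E, (QuotientGroup.mk x : G ⧸ S) = z := by
      intro z
      induction z using QuotientGroup.induction_on with
      | H g =>
        have hg : g ∈ ((E ⊔ S : Subgroup G) : Set G) := by rw [hgen]; trivial
        rw [Subgroup.mul_normal] at hg
        obtain ⟨x, hx, s, hs, rfl⟩ := hg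
        exact ⟨x, hx, QuotientGroup.eq.2 (by simpa using hs)⟩
    have hEc : ∀ x ∈ E, ∀ y ∈ E, x * y = y * x := fun x hx y hy => by
      letI := IsCyclic.commGroup (α := E)
      exact congrArg Subtype.val (mul_comm (⟨x, hx⟩ : E) ⟨y, hy⟩)
    letI : CommGroup (G ⧸ S) :=
      { (inferInstance : Group (G ⧸ S)) with
        mul_comm := fun z w => by
          obtain ⟨x, hx, rfl⟩ := hsurj z
          obtain ⟨y, hy, rfl⟩ := hsurj w
          rw [← QuotientGroup.mk_mul, ← QuotientGroup.mk_mul, hEc x hx y hy] }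
    obtain ⟨g₀, hg₀⟩ : ∃ g : G, g ∉ S := by
      by_contra h; push Not at h; exact hS2 (eq_top_iff.2 fun g _ => h g)
    haveI : Finite (G ⧸ S) := inferInstance
    haveI : NeZero (Monoid.exponent (G ⧸ S) : ℂ) :=
      ⟨Nat.cast_ne_zero.mpr Monoid.exponent_ne_zero_of_finite⟩
    obtain ⟨f, hf⟩ := CommGroup.exists_apply_ne_one_of_hasEnoughRootsOfUnity (G ⧸ S) ℂ
      (a := (QuotientGroup.mk g₀ : G ⧸ S)) (fun h => hg₀ ((QuotientGroup.eq_one_iff _).1 h))
    obtain ⟨x, hx, hxg⟩ := hsurj (QuotientGroup.mk g₀)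
    set l : G →* ℂˣ := f.comp (QuotientGroup.mk' S) with hl
    have hlx : l x ≠ 1 := by
      show f (QuotientGroup.mk x) ≠ 1
      rw [hxg]; exact hf
    have hlψ : ∀ g, (l g : ℂ) * (ψ : G → ℂ) g = (ψ : G → ℂ) g := by
      intro g
      let ψ' : IrrCharacter G := ⟨_, ChiefRestrict.isIrr_mul_linear ψ.2 l⟩
      have hd : charDegree (ψ' : G → ℂ) = p := by
        have h1 := irr_one_eq_charDegree ψ'
        change (l 1 : ℂ) * (ψ : G → ℂ) 1 = _ at h1
        rw [map_one, Units.val_one, one_mul, hψ1] at h1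
        exact_mod_cast h1.symm
      exact congrFun (congrArg Subtype.val (hψu ψ' hd)) g
    set d := orderOf (l x) with hd
    have hd1 : d ≠ 1 := fun h => hlx (orderOf_eq_one_iff.1 h)
    set q := d.minFac with hq
    have hqp : q.Prime := Nat.minFac_prime hd1
    obtain ⟨k, m, hqm, hxo⟩ := Nat.exists_eq_pow_mul_and_not_dvd (orderOf_pos x).ne' q hqp.ne_one
    have hqe : q ∣ Nat.card E := ((Nat.minFac_dvd d).trans (orderOf_map_dvd l x)).trans
      (Subgroup.orderOf_dvd_natCard E hx)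
    have hqp' : ¬ q ∣ p := fun h => by
      rw [(Nat.prime_dvd_prime_iff_eq hqp hp).1 h] at hqe
      have h3 := hp.two_le
      have h4 : p ≤ p - 1 := Nat.le_of_dvd (by omega) (hqe.trans he)
      omega
    have hlg : l (x ^ m) ≠ 1 := fun h => hqm
      ((Nat.minFac_dvd d).trans (by rw [hd]; exact orderOf_dvd_of_pow_eq_one (by rw [← map_pow, h])))
    have h0 : (ψ : G → ℂ) (x ^ m) = 0 := by
      by_contra h
      refine hlg (Units.ext ?_)
      exact mul_right_cancel₀ h ((hlψ _).trans (one_mul _).symm)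
    have hgo : orderOf (x ^ m) = q ^ k := by
      have hm0 : m ≠ 0 := fun h => hqm (h ▸ dvd_zero q)
      rw [orderOf_pow' x hm0, hxo, Nat.gcd_eq_right (dvd_mul_left m _),
        Nat.mul_div_cancel _ (Nat.pos_of_ne_zero hm0)]
    haveI := Fact.mk hqp
    obtain ⟨M, hM⟩ := GlaubermanMod.exists_isPModular q
    haveI := hM.2.1.isPrime
    have hcg := char_congr_regular (x := x ^ m) (y := 1) hM (IsIrrCharacter.isCharacter ψ.2)
      (Commute.one_right _) hgo (by rw [orderOf_one]; exact hqp.not_dvd_one)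
    rw [mul_one, h0, hψ1] at hcg
    refine hqp' ((natCast_memLocalIdeal_iff hM p).1 ?_)
    simpa using MemLocalIdeal.neg hcg
  haveI := hsimple
  have hnc : ¬ IsMulCommutative G := by
    intro h
    have htop : (⊤ : Subgroup G) ≤ Q := fun g _ => by
      obtain ⟨⟨y, hy⟩, hy1⟩ : ∃ y : Q, y ≠ 1 := by
        haveI : Nontrivial Q := Finite.one_lt_card_iff_nontrivial.1 (hP ▸ hp.one_lt)
        exact exists_ne 1
      exact hC y hy (fun h => hy1 (Subtype.ext h)) g (mul_comm' g y)
    have : Nat.card E ≤ 1 := by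
      rw [show E = ⊥ from le_bot_iff.1 (hPE' ▸ le_inf (fun g _ => htop trivial) le_rfl)]
      simp
    omega
  -- the fixed points
  set N := Subgroup.normalizer (Q : Set G) with hNdef
  have hone : ∀ n ∈ N, n ∉ Q → ∀ b c : α, n • b = b → n • c = c → b = c := by
    intro n hn hnQ b c hb hc
    obtain ⟨⟨y, hy⟩, rfl : y • a = b⟩ := hreg.2 b
    obtain ⟨⟨z, hz⟩, rfl : z • a = c⟩ := hreg.2 c
    set w := z * y⁻¹ with hw
    have hwQ : w ∈ Q := Q.mul_mem hz (Q.inv_mem hy)
    have hwb : w • (y • a) = z • a := by rw [hw, smul_smul, inv_mul_cancel_right]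
    by_contra hne
    have hw1 : w ≠ 1 := fun h => hne (by rw [← hwb, h, one_smul])
    have hconj : n * w * n⁻¹ ∈ Q := (Subgroup.mem_normalizer_iff.1 hn w).1 hwQ
    have h2 : (w⁻¹ * (n * w * n⁻¹)) • (y • a) = y • a := by
      rw [mul_smul, mul_smul, mul_smul, inv_smul_eq_iff.2 hb.symm, hwb, hc, ← hwb, inv_smul_smul]
    have h3 := hfree _ (Q.mul_mem (Q.inv_mem hwQ) hconj) _ h2
    rw [inv_mul_eq_one, eq_comm, mul_inv_eq_iff_eq_mul] at h3
    exact hnQ (hC w hwQ hw1 n h3)
  let A : Subgroup N := stabilizer N a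
  have hAQ : ∀ x : A, x ≠ 1 → ((x : N) : G) ∉ Q := fun x hx h =>
    hx (Subtype.ext (Subtype.ext (hfree _ h a (mem_stabilizer_iff.1 x.2))))
  have hfix : ∀ n ∈ N, n ∉ Q → ∃ b : α, n • b = b := by
    have hQN : Q ≤ N := Subgroup.le_normalizer
    haveI : IsPretransitive N α := ⟨fun b c => by
      obtain ⟨x, rfl⟩ := hreg.2 b
      obtain ⟨y, rfl⟩ := hreg.2 c
      refine ⟨⟨(y : G) * (x : G)⁻¹, hQN (Q.mul_mem y.2 (Q.inv_mem x.2))⟩, ?_⟩
      show ((y : G) * (x : G)⁻¹) • (x : G) • a = (y : G) • a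
      rw [smul_smul, inv_mul_cancel_right]⟩
    let Φ : Q × {x : A // x ≠ 1} → {n : N // (n : G) ∉ Q} := fun yx =>
      ⟨⟨(yx.1 : G), hQN yx.1.2⟩ * ((yx.2 : A) : N) * ⟨(yx.1 : G), hQN yx.1.2⟩⁻¹, fun h => by
        refine hAQ yx.2.1 yx.2.2 ?_
        have := Q.mul_mem (Q.mul_mem (Q.inv_mem yx.1.2) h) yx.1.2
        simpa [mul_assoc] using this⟩
    have hΦfix : ∀ yx, ((Φ yx : N) : G) • ((yx.1 : G) • a) = (yx.1 : G) • a := fun yx => by
      show ((yx.1 : G) * ((yx.2 : A) : N) * (yx.1 : G)⁻¹) • _ = _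
      rw [smul_smul, inv_mul_cancel_right, mul_smul]
      exact congrArg _ (mem_stabilizer_iff.1 (yx.2 : A).2)
    have hΦ : Function.Injective Φ := by
      intro yx yx' h
      have h1 := hone _ (Φ yx).1.2 (Φ yx).2 _ _ (hΦfix yx) (h ▸ hΦfix yx')
      have h2 : yx.1 = yx'.1 := hreg.1 h1
      have h3 := congrArg Subtype.val h
      simp only [Φ, h2] at h3
      exact Prod.ext h2 (Subtype.ext (Subtype.ext (mul_left_cancel (mul_right_cancel h3))))
    have hcN : Nat.card N = p * Nat.card A := by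
      rw [← A.card_mul_index, index_stabilizer_of_transitive, hαn, mul_comm]
    have hcard : Nat.card (Q × {x : A // x ≠ 1}) = Nat.card {n : N // (n : G) ∉ Q} := by
      rw [Nat.card_prod, hP]
      simp only [Nat.card_eq_fintype_card, Fintype.card_subtype_compl, Fintype.card_subtype_eq]
      rw [← Nat.card_eq_fintype_card, ← Nat.card_eq_fintype_card, ← Nat.card_eq_fintype_card,
        hcN, Nat.card_congr (Subgroup.subgroupOfEquivOfLe hQN).toEquiv |> fun h =>
          (show Nat.card {n : N // (n : G) ∈ Q} = Nat.card Q from h), hP, Nat.mul_sub, mul_one]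
    intro n hn hnQ
    obtain ⟨yx, hyx⟩ := ((Nat.bijective_iff_injective_and_card Φ).2 ⟨hΦ, hcard⟩).2 ⟨⟨n, hn⟩, hnQ⟩
    exact ⟨_, (by rw [hyx] : ((Φ yx : N) : G) = n) ▸ hΦfix yx⟩
  -- the permutation character
  have h2t : IsMultiplyPretransitive G α 2 := by
    refine (PermPrime.burnside (p := p) hαn).resolve_left fun hsol => hnc ?_
    exact ⟨⟨IsSimpleGroup.comm_iff_isSolvable.2 hsol⟩⟩
  let θ : IrrCharacter G :=
    ⟨_, (S0157.result (G := G) α (by rw [hαn]; exact hp.two_le)).2 h2t⟩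
  refine ⟨hp, hP, hsq, hC, hPE, hPE', hcyc, he, he2, hNE, hTI,
    ⟨stabilizer G a, by rw [index_stabilizer_of_transitive, hαn]⟩, card_dvd_factorial hα G, huniq,
    hsimple, hnc, θ, ?_, fun y hy hy1 => ?_, fun x hx hx1 => ?_⟩
  · show (Nat.card (fixedBy α (1 : G)) : ℂ) - 1 = (p : ℂ) - 1
    rw [fixedBy_one_eq_univ, Nat.card_coe_set_eq, Set.ncard_univ, hαn]
  · show (Nat.card (fixedBy α y) : ℂ) - 1 = -1
    have : fixedBy α y = ∅ := Set.eq_empty_iff_forall_notMem.2 fun b hb => hy1 (hfree y hy b hb)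
    rw [Nat.card_coe_set_eq, this, Set.ncard_empty, Nat.cast_zero, zero_sub]
  · show (Nat.card (fixedBy α x) : ℂ) - 1 = 0
    have hxQ : x ∉ Q := fun h => hx1 (by
      have h' : x ∈ Q ⊓ E := ⟨h, hx⟩
      rwa [hPE', Subgroup.mem_bot] at h')
    obtain ⟨b, hb⟩ := hfix x (hEN hx) hxQ
    have : fixedBy α x = {b} := Set.ext fun c => ⟨fun hc => hone x (hEN hx) hxQ c b hc hb,
      fun hc => by rw [Set.mem_singleton_iff.1 hc]; exact hb⟩
    rw [Nat.card_coe_set_eq, this, Set.ncard_singleton, Nat.cast_one, sub_self]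

end Cfsg.Agent.UniqueDegree
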