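/-
The normaliser of the complement: fusion, and the inversion of the odd part.
-/
import Cfsg.Agent.Lib.UniqueDegree.Basic
import Mathlib.GroupTheory.Transfer

set_option linter.unusedSectionVars false
set_option linter.style.haveILetI false

namespace Cfsg.Agent.UniqueDegree

open Cfsg

universe u

variable {G : Type u} [Group G] [Fintype G] {p : ℕ} {P E : Subgroup G}

local notation "M" => Subgroup.normalizer (E : Set G)

namespace Data

variable (D : Data p P E)
include D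

theorem commE {x y : G} (hx : x ∈ E) (hy : y ∈ E) : x * y = y * x := by
  haveI := D.hcyc
  letI := IsCyclic.commGroup (α := E)
  exact congrArg Subtype.val (mul_comm (⟨x, hx⟩ : E) ⟨y, hy⟩)

theorem conjM {g x : G} (hg : g ∈ M) (hx : x ∈ E) : g * x * g⁻¹ ∈ E :=
  (Subgroup.mem_normalizer_iff.1 hg x).1 hx

theorem mem_M_of_fusion {g x : G} (hx : x ∈ E) (hx1 : x ≠ 1) (hg : g * x * g⁻¹ ∈ E) : g ∈ M := by
  by_contra h
  have hm : g * x * g⁻¹ ∈ E ⊓ E.map (MulAut.conj g).toMonoidHom :=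
    ⟨hg, ⟨x, hx, rfl⟩⟩
  rw [D.hTI g h, Subgroup.mem_bot, conj_eq_one_iff] at hm
  exact hx1 hm

theorem mem_M_of_comm {g x : G} (hx : x ∈ E) (hx1 : x ≠ 1) (hg : g * x = x * g) : g ∈ M :=
  D.mem_M_of_fusion hx hx1 (by rw [hg, mul_inv_cancel_right]; exact hx)

theorem index_two : (E.subgroupOf M).index = 2 := by
  have h := (E.subgroupOf M).card_mul_index
  rw [Nat.card_congr (Subgroup.subgroupOfEquivOfLe Subgroup.le_normalizer).toEquiv, D.hM,
    mul_comm 2] at h
  exact Nat.eq_of_mul_eq_mul_left Nat.card_pos h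

theorem mul_mem_iff {a b : G} (ha : a ∈ M) (hb : b ∈ M) : a * b ∈ E ↔ (a ∈ E ↔ b ∈ E) :=
  Subgroup.mul_mem_iff_of_index_two D.index_two (a := ⟨a, ha⟩) (b := ⟨b, hb⟩)

theorem exists_notMem : ∃ g ∈ M, g ∉ E := by
  by_contra h
  push Not at h
  have := Subgroup.card_le_of_le (h : M ≤ E)
  rw [D.hM] at this
  have := D.he2
  omega

theorem exists_gen : ∃ c ∈ E, ∀ x ∈ E, ∃ i : ℕ, x = c ^ i := by
  haveI := D.hcyc
  obtain ⟨c, hc⟩ := IsCyclic.exists_generator (α := E)
  refine ⟨c, c.2, fun x hx => ?_⟩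
  obtain ⟨i, hi⟩ := mem_powers_iff_mem_zpowers.2 (hc ⟨x, hx⟩)
  exact ⟨i, by simpa using (congrArg Subtype.val hi).symm⟩

/-- Two elements of the same prime order in `E` generate the same subgroup. -/
theorem mem_zpowers_of_prime_order {q : ℕ} (hq : q.Prime) {a b : G} (ha : a ∈ E) (hb : b ∈ E)
    (hao : orderOf a = q) (hbo : orderOf b = q) : b ∈ Subgroup.zpowers a := by
  classical
  haveI := D.hcyc
  set A : E := ⟨a, ha⟩
  set B : E := ⟨b, hb⟩
  have hA : orderOf A = q := by rw [← hao, ← Subgroup.orderOf_coe]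
  have h1 : (Finset.univ.filter fun x : E => x ∈ Subgroup.zpowers A) =
      Finset.univ.filter fun x : E => x ^ q = 1 := by
    refine Finset.eq_of_subset_of_card_le (fun x hx => ?_) ?_
    · rw [Finset.mem_filter] at hx ⊢
      refine ⟨hx.1, orderOf_dvd_iff_pow_eq_one.1 ?_⟩
      exact (Subgroup.orderOf_dvd_natCard _ hx.2).trans ((Nat.card_zpowers A).trans hA).dvd
    · refine (IsCyclic.card_pow_eq_one_le hq.pos).trans (le_of_eq ?_)
      rw [← Fintype.card_subtype, ← Nat.card_eq_fintype_card]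
      exact (hA.symm.trans (Nat.card_zpowers A).symm)
  have hB : B ∈ Finset.univ.filter fun x : E => x ^ q = 1 :=
    Finset.mem_filter.2 ⟨Finset.mem_univ _, Subtype.ext (by
      rw [Subgroup.coe_pow, Subgroup.coe_one, show ((B : G)) = b from rfl, ← hbo, pow_orderOf_eq_one])⟩
  rw [← h1, Finset.mem_filter] at hB
  obtain ⟨i, hi⟩ := Subgroup.mem_zpowers_iff.1 hB.2
  exact Subgroup.mem_zpowers_iff.2 ⟨i, by simpa [A, B] using congrArg Subtype.val hi⟩

/-- An element outside `E` fixes no element of odd prime order of `E`. -/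
theorem no_fixed {q : ℕ} (hq : q.Prime) (hq2 : q ≠ 2) {g z : G} (hgM : g ∈ M) (hgE : g ∉ E)
    (hz : z ∈ E) (hzo : orderOf z = q) (hgz : g * z = z * g) : False := by
  classical
  haveI := Fact.mk hq
  haveI := D.hsimple
  have hz1 : z ≠ 1 := fun h => hq.ne_one (by rw [← hzo, h, orderOf_one])
  obtain ⟨R, hR⟩ := (show IsPGroup q (Subgroup.zpowers z) from
    IsPGroup.of_card (n := 1) (by rw [Nat.card_zpowers, hzo, pow_one])).exists_le_sylow
  have hzR : z ∈ (R : Subgroup G) := hR (Subgroup.mem_zpowers z)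
  -- `q`-elements of the normaliser lie in `E`
  have hRM : (R : Subgroup G) ⊓ M ≤ E := by
    rintro x ⟨hxR, hxM⟩
    obtain ⟨k, hk⟩ := IsPGroup.iff_orderOf.1 R.2 ⟨x, hxR⟩
    rw [Subgroup.orderOf_mk] at hk
    obtain ⟨j, hj⟩ : Odd (q ^ k) := (hq.odd_of_ne_two hq2).pow
    have hxx : x * x ∈ E := (D.mul_mem_iff hxM hxM).2 Iff.rfl
    have : x * (x * x) ^ j ∈ E := by
      rw [← sq, ← pow_mul, ← pow_succ', ← hj, ← hk, pow_orderOf_eq_one]
      exact E.one_mem
    exact (Subgroup.mul_mem_cancel_right E (E.pow_mem hxx j)).1 this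
  have hRle : (R : Subgroup G) ≤ M := by
    intro x hx
    by_contra hxM
    haveI : Group.IsNilpotent (R : Subgroup G) := R.2.isNilpotent
    have hlt : (M).subgroupOf R < ⊤ :=
      lt_top_iff_ne_top.2 fun h => hxM (Subgroup.subgroupOf_eq_top.1 h hx)
    obtain ⟨-, ⟨y, hy, hy'⟩⟩ := SetLike.lt_iff_le_and_exists.1
      (normalizerCondition_of_isNilpotent _ hlt)
    refine hy' (D.mem_M_of_fusion hz hz1 ?_)
    have hzM : (⟨z, hzR⟩ : (R : Subgroup G)) ∈ (M).subgroupOf R := Subgroup.le_normalizer hz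
    have := (Subgroup.mem_normalizer_iff.1 hy _).1 hzM
    refine hRM ⟨?_, this⟩
    exact (y * ⟨z, hzR⟩ * y⁻¹).2
  have hRE : (R : Subgroup G) ≤ E := fun x hx => hRM ⟨hx, hRle hx⟩
  have hfix : ∀ x ∈ (R : Subgroup G), g * x = x * g := by
    intro x hx
    by_contra hne
    set b := (g * x * g⁻¹) * x⁻¹ with hb
    have hgx := D.conjM hgM (hRE hx)
    have hbE : b ∈ E := E.mul_mem hgx (E.inv_mem (hRE hx))
    have hb1 : b ≠ 1 := fun h => hne (by
      rw [hb, mul_inv_eq_one, mul_inv_eq_iff_eq_mul] at h; exact h)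
    have hgb : g * b * g⁻¹ = b⁻¹ := by
      have h2 : g * g ∈ E := (D.mul_mem_iff hgM hgM).2 Iff.rfl
      calc g * b * g⁻¹ = (g * g) * x * (g * g)⁻¹ * (g * x * g⁻¹)⁻¹ := by rw [hb]; group
        _ = x * (g * x * g⁻¹)⁻¹ := by rw [D.commE h2 (hRE hx), mul_inv_cancel_right]
        _ = b⁻¹ := by rw [hb]; group
    obtain ⟨k, hk⟩ := IsPGroup.iff_orderOf.1 R.2 ⟨x, hx⟩
    rw [Subgroup.orderOf_mk] at hk
    have hbk : b ^ q ^ k = 1 := by
      rw [hb, (show Commute (g * x * g⁻¹) x⁻¹ from D.commE hgx (E.inv_mem (hRE hx))).mul_pow,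
        conj_pow, inv_pow, ← hk, pow_orderOf_eq_one]
      group
    have hqb : q ∣ orderOf b := by
      obtain ⟨j, -, hj⟩ := (Nat.dvd_prime_pow hq).1 (orderOf_dvd_of_pow_eq_one hbk)
      have : j ≠ 0 := fun h => hb1 (orderOf_eq_one_iff.1 (by rw [hj, h, pow_zero]))
      rw [hj]; exact dvd_pow_self q this
    set w := b ^ (orderOf b / q) with hw
    have hwo : orderOf w = q := orderOf_pow_orderOf_div (orderOf_pos b).ne' hqb
    have hgw : g * w * g⁻¹ = w⁻¹ := by rw [hw, ← conj_pow, hgb, inv_pow]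
    obtain ⟨i, hi'⟩ := Subgroup.mem_zpowers_iff.1
      (D.mem_zpowers_of_prime_order hq hz (E.pow_mem hbE _) hzo hwo)
    have hi : z ^ i = w := hi'
    have hgw' : g * w * g⁻¹ = w := by
      rw [← hi, ← conj_zpow, hgz, mul_inv_cancel_right]
    have h2 : w ^ 2 = 1 := by
      rw [sq]; nth_rw 2 [← hgw']; rw [hgw, mul_inv_cancel]
    have := orderOf_dvd_of_pow_eq_one h2
    rw [hwo] at this
    exact hq2 ((Nat.prime_dvd_prime_iff_eq hq Nat.prime_two).1 this)
  have hcentral : Subgroup.normalizer ((R : Subgroup G) : Set G) ≤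
      Subgroup.centralizer ((R : Subgroup G) : Set G) := by
    intro n hn
    have hnM : n ∈ M :=
      D.mem_M_of_fusion hz hz1 (hRE ((Subgroup.mem_normalizer_iff.1 hn z).1 hzR))
    refine Subgroup.mem_centralizer_iff.2 fun x hx => ?_
    by_cases hnE : n ∈ E
    · exact D.commE (hRE hx) hnE
    have h1 : g⁻¹ * n ∈ E := (D.mul_mem_iff ((M).inv_mem hgM) hnM).2
      ⟨fun h => absurd (E.inv_mem_iff.1 h) hgE, fun h => absurd h hnE⟩
    calc x * n = (x * g) * (g⁻¹ * n) := by group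
      _ = g * (x * (g⁻¹ * n)) := by rw [← hfix x hx, mul_assoc]
      _ = g * ((g⁻¹ * n) * x) := by rw [D.commE (hRE hx) h1]
      _ = n * x := by group
  have hcomp := MonoidHom.ker_transferSylow_isComplement' R hcentral
  have hn : (MonoidHom.transferSylow R hcentral).ker.Normal := inferInstance
  rcases hn.eq_bot_or_eq_top with h | h
  · rw [h, Subgroup.isComplement'_bot_left] at hcomp
    refine D.hnc ⟨⟨fun a b => D.commE (hRE ?_) (hRE ?_)⟩⟩ <;> rw [hcomp] <;> trivial
  · rw [h, Subgroup.isComplement'_top_left] at hcomp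
    exact hz1 (by rw [hcomp, Subgroup.mem_bot] at hzR; exact hzR)

/-- An element outside `E` inverts the elements of odd order of `E`. -/
theorem inverted_odd {g x : G} (hgM : g ∈ M) (hgE : g ∉ E) (hx : x ∈ E) (hxo : Odd (orderOf x)) :
    g * x * g⁻¹ = x⁻¹ := by
  set a := x * (g * x * g⁻¹) with ha
  have hgx := D.conjM hgM hx
  have haE : a ∈ E := E.mul_mem hx hgx
  have hga : g * a = a * g := by
    have h2 : g * g ∈ E := (D.mul_mem_iff hgM hgM).2 Iff.rfl
    refine mul_inv_eq_iff_eq_mul.1 ?_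
    calc g * a * g⁻¹ = (g * x * g⁻¹) * ((g * g) * x * (g * g)⁻¹) := by rw [ha]; group
      _ = (g * x * g⁻¹) * x := by rw [D.commE h2 hx, mul_inv_cancel_right]
      _ = a := D.commE hgx hx
  by_contra hne
  have ha1 : a ≠ 1 := fun h => hne (inv_eq_of_mul_eq_one_right (ha ▸ h)).symm
  have hdvd : orderOf a ∣ orderOf x := orderOf_dvd_of_pow_eq_one (by
    rw [ha, (show Commute x (g * x * g⁻¹) from D.commE hx hgx).mul_pow, conj_pow,
      pow_orderOf_eq_one]
    group)
  set q := (orderOf a).minFac with hqd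
  have hq : q.Prime := Nat.minFac_prime fun h => ha1 (orderOf_eq_one_iff.1 h)
  have hq2 : q ≠ 2 := fun h => by
    have h2 : 2 ∣ orderOf x := h ▸ (Nat.minFac_dvd _).trans hdvd
    exact absurd (even_iff_two_dvd.2 h2) (Nat.not_even_iff_odd.2 hxo)
  exact D.no_fixed hq hq2 hgM hgE (E.pow_mem haE _)
    (orderOf_pow_orderOf_div (orderOf_pos a).ne' (Nat.minFac_dvd _))
    ((show Commute g a from hga).pow_right _)

end Data

end Cfsg.Agent.UniqueDegree
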