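/-
Complement of odd order: the characters not orthogonal to the functions supported on the
complement.
-/
import Cfsg.Agent.Lib.UniqueDegree.Common
import Cfsg.Agent.Lib.Char.CoprimeConstituent
import Mathlib.RingTheory.IntegralDomain

set_option linter.unusedSectionVars false
set_option linter.style.haveILetI false

namespace Cfsg.Agent.UniqueDegree

open Cfsg Cfsg.Agent.Char Cfsg.Agent.Blocks
open scoped ComplexConjugate

universe u

variable {G : Type u} [Group G] [Fintype G] {p : ℕ} {P E : Subgroup G}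

local notation "M" => Subgroup.normalizer (E : Set G)

theorem exists_nat_mult (E : Subgroup G) [Fintype E] (χ : IrrCharacter G) (l : E →* ℂˣ) :
    ∃ n : ℕ, (n : ℂ) = (Nat.card E : ℂ)⁻¹ * ∑ x : E, (χ : G → ℂ) x * ((l x⁻¹ : ℂˣ) : ℂ) := by
  obtain ⟨m, hm⟩ := IsCharacter.exists_decomp
    (IsCharacter.comp (IsIrrCharacter.isCharacter χ.2) E.subtype)
  let L : IrrCharacter E := ⟨_, isIrrCharacter_linear l⟩
  have hL : Cfsg.classInner (fun x : E => (χ : G → ℂ) x) (L : E → ℂ) = (m L : ℂ) := by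
    rw [show (fun x : E => (χ : G → ℂ) x) = _ from hm, classInner_combination]
  refine ⟨m L, ?_⟩
  rw [← hL, Cfsg.classInner]
  congr 1
  refine Finset.sum_congr rfl fun x _ => ?_
  congr 1
  show conj ((l x : ℂˣ) : ℂ) = ((l x⁻¹ : ℂˣ) : ℂ)
  rw [← IsCharacter.inv (IsIrrCharacter.isCharacter L.2)]

/-- The multiplicity of a linear character of `E`. -/
noncomputable def nE (E : Subgroup G) [Fintype E] (χ : IrrCharacter G) (l : E →* ℂˣ) : ℕ :=
  (exists_nat_mult E χ l).choose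

theorem nE_eq (E : Subgroup G) [Fintype E] (χ : IrrCharacter G) (l : E →* ℂˣ) :
    (nE E χ l : ℂ) = (Nat.card E : ℂ)⁻¹ * ∑ x : E, (χ : G → ℂ) x * ((l x⁻¹ : ℂˣ) : ℂ) :=
  (exists_nat_mult E χ l).choose_spec

/-- The component on the functions vanishing at the identity. -/
noncomputable def aE (E : Subgroup G) [Fintype E] (χ : IrrCharacter G) (l : E →* ℂˣ) : ℤ :=
  (nE E χ 1 : ℤ) - nE E χ l

theorem aE_eq (E : Subgroup G) [Fintype E] (χ : IrrCharacter G) (l : E →* ℂˣ) :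
    (aE E χ l : ℂ) =
      (Nat.card E : ℂ)⁻¹ * ∑ x : E, (1 - ((l x⁻¹ : ℂˣ) : ℂ)) * (χ : G → ℂ) x := by
  rw [aE, Int.cast_sub, Int.cast_natCast, Int.cast_natCast, nE_eq, nE_eq, ← mul_sub,
    ← Finset.sum_sub_distrib]
  congr 1
  refine Finset.sum_congr rfl fun x _ => ?_
  rw [MonoidHom.one_apply, Units.val_one]
  ring

theorem sum_lin {A : Type*} [Group A] [Fintype A] (l : A →* ℂˣ) (hl : l ≠ 1) :
    ∑ x : A, ((l x : ℂˣ) : ℂ) = 0 :=
  sum_hom_units_eq_zero ((Units.coeHom ℂ).comp l) fun h =>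
    hl (MonoidHom.ext fun x => Units.ext (DFunLike.congr_fun h x))

theorem sum_lin_inv {A : Type*} [Group A] [Fintype A] (l : A →* ℂˣ) [Decidable (l = 1)] :
    ∑ x : A, ((l x⁻¹ : ℂˣ) : ℂ) = if l = 1 then (Nat.card A : ℂ) else 0 := by
  split_ifs with h
  · simp [h]
  · rw [← sum_lin l h]
    exact Fintype.sum_equiv (Equiv.inv A) _ _ fun x => rfl

/-- Two terms in a sum of squares equal to two. -/
theorem two_supp {ι : Type*} [DecidableEq ι] (S : Finset ι) (f : ι → ℤ)
    (h : ∑ i ∈ S, f i * f i = 2) :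
    ∃ i ∈ S, ∃ j ∈ S, i ≠ j ∧ (f i = 1 ∨ f i = -1) ∧ (f j = 1 ∨ f j = -1) ∧
      ∀ k ∈ S, k ≠ i → k ≠ j → f k = 0 := by
  obtain ⟨i, hi, hfi⟩ : ∃ i ∈ S, f i ≠ 0 := by
    by_contra hn
    push Not at hn
    rw [Finset.sum_eq_zero fun k hk => by rw [hn k hk, mul_zero]] at h
    norm_num at h
  rw [← Finset.add_sum_erase _ _ hi] at h
  have hnn : ∀ T : Finset ι, 0 ≤ ∑ k ∈ T, f k * f k := fun T =>
    Finset.sum_nonneg fun k _ => mul_self_nonneg _
  have hb : ∀ a : ℤ, a ≠ 0 → a * a ≤ 2 → a = 1 ∨ a = -1 := by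
    intro a ha hle
    have h1 : -1 ≤ a := by nlinarith
    have h2 : a ≤ 1 := by nlinarith
    omega
  have hfi' := hb _ hfi (by have := hnn (S.erase i); linarith)
  have hsq : f i * f i = 1 := by rcases hfi' with e | e <;> rw [e] <;> rfl
  obtain ⟨j, hj, hfj⟩ : ∃ j ∈ S.erase i, f j ≠ 0 := by
    by_contra hn
    push Not at hn
    rw [Finset.sum_eq_zero fun k hk => by rw [hn k hk, mul_zero], add_zero, hsq] at h
    norm_num at h
  rw [← Finset.add_sum_erase _ _ hj] at h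
  have hfj' := hb _ hfj (by have := hnn ((S.erase i).erase j); linarith)
  have hsq' : f j * f j = 1 := by rcases hfj' with e | e <;> rw [e] <;> rfl
  have h0 : ∑ k ∈ (S.erase i).erase j, f k * f k = 0 := by linarith
  rw [Finset.sum_eq_zero_iff_of_nonneg fun k _ => mul_self_nonneg _] at h0
  refine ⟨i, hi, j, Finset.mem_of_mem_erase hj, (Finset.ne_of_mem_erase hj).symm, hfi', hfj',
    fun k hk hki hkj => mul_self_eq_zero.1 (h0 k ?_)⟩
  exact Finset.mem_erase.2 ⟨hkj, Finset.mem_erase.2 ⟨hki, hk⟩⟩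

namespace Data

variable (D : Data p P E) (hodd : Odd (Nat.card E))
include D hodd

theorem inverted {g x : G} (hg : g ∈ M) (hgE : g ∉ E) (hx : x ∈ E) : g * x * g⁻¹ = x⁻¹ :=
  D.inverted_odd hg hgE hx (hodd.of_dvd_nat (Subgroup.orderOf_dvd_natCard E hx))

theorem ne_inv {x : G} (hx : x ∈ E) (hx1 : x ≠ 1) : x ≠ x⁻¹ := by
  intro h
  have h2 : orderOf x ∣ 2 := orderOf_dvd_of_pow_eq_one (by rw [sq]; nth_rw 2 [h]; exact mul_inv_cancel x)
  rcases (Nat.dvd_prime Nat.prime_two).1 h2 with e | e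
  · exact hx1 (orderOf_eq_one_iff.1 e)
  · have := hodd.of_dvd_nat (Subgroup.orderOf_dvd_natCard E hx)
    rw [e] at this
    norm_num at this

theorem centralizer_eq {x : G} (hx : x ∈ E) (hx1 : x ≠ 1) :
    Subgroup.centralizer ({x} : Set G) = E := by
  ext g
  rw [Subgroup.mem_centralizer_singleton_iff]
  refine ⟨fun h => ?_, fun h => D.commE h hx⟩
  by_contra hgE
  have h2 := D.inverted hodd (D.mem_M_of_comm hx hx1 h) hgE hx
  rw [h, mul_inv_cancel_right] at h2
  exact D.ne_inv hodd hx hx1 h2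

theorem isConj_iff_eq {x y : G} (hx : x ∈ E) (hx1 : x ≠ 1) (hy : y ∈ E) :
    IsConj x y ↔ y = x ∨ y = x⁻¹ := by
  constructor
  · intro h
    obtain ⟨g, hg⟩ := isConj_iff.1 h
    have hgM := D.mem_M_of_fusion hx hx1 (hg ▸ hy)
    by_cases hgE : g ∈ E
    · left; rw [← hg, D.commE hgE hx, mul_inv_cancel_right]
    · right; rw [← hg, D.inverted hodd hgM hgE hx]
  · rintro (rfl | rfl)
    · exact IsConj.refl _
    · obtain ⟨s, hs, hsE⟩ := D.exists_notMem
      exact isConj_iff.2 ⟨s, D.inverted hodd hs hsE hx⟩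

open scoped Classical in
theorem gram [Fintype E] (l m : E →* ℂˣ) (hl : l ≠ 1) (hm : m ≠ 1) :
    ∑ χ : IrrCharacter G, aE E χ l * aE E χ m =
      2 + (if m = l then 1 else 0) + (if m = l⁻¹ then 1 else 0) := by
  have he0 : (Nat.card E : ℂ) ≠ 0 := Nat.cast_ne_zero.2 Nat.card_pos.ne'
  set f : E → ℂ := fun x => 1 - ((l x⁻¹ : ℂˣ) : ℂ) with hf
  set g : E → ℂ := fun x => 1 - ((m x⁻¹ : ℂˣ) : ℂ) with hg
  have hf1 : f 1 = 0 := by simp [hf]
  have hg1 : g 1 = 0 := by simp [hg]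
  have key : ∀ x y : E, f x * g y * ∑ χ : IrrCharacter G, (χ : G → ℂ) x * (χ : G → ℂ) y =
      f x * g y * ((Nat.card E : ℂ) * ((if y = x then 1 else 0) + if y = x⁻¹ then 1 else 0)) := by
    intro x y
    by_cases hx : x = 1
    · rw [hx, hf1, zero_mul, zero_mul, zero_mul]
    by_cases hy : y = 1
    · rw [hy, hg1, mul_zero, zero_mul, zero_mul]
    have hx1 : (x : G) ≠ 1 := fun h => hx (Subtype.ext h)
    congr 1
    have e1 : ∀ χ : IrrCharacter G, (χ : G → ℂ) y = conj ((χ : G → ℂ) (y : G)⁻¹) := fun χ => by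
      rw [← IsCharacter.inv (IsIrrCharacter.isCharacter χ.2), inv_inv]
    simp only [e1]
    by_cases hc : IsConj (x : G) (y : G)⁻¹
    · rw [column_orth_of_isConj hc, D.centralizer_eq hodd x.2 hx1]
      rcases (D.isConj_iff_eq hodd x.2 hx1 (E.inv_mem y.2)).1 hc with e | e
      · have e' : y = x⁻¹ := Subtype.ext (show (y : G) = (x : G)⁻¹ by rw [← e, inv_inv])
        rw [if_neg (fun h => D.ne_inv hodd x.2 hx1 (by
          have := congrArg Subtype.val (h.symm.trans e'); exact this)), if_pos e', zero_add, mul_one]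
      · have e' : y = x := Subtype.ext (inv_injective e)
        rw [if_pos e', if_neg (fun h => D.ne_inv hodd x.2 hx1 (by
          have := congrArg Subtype.val (e'.symm.trans h); exact this)), add_zero, mul_one]
    · rw [column_orth_of_not_isConj hc, if_neg, if_neg, add_zero, mul_zero]
      · intro h
        refine hc ((D.isConj_iff_eq hodd x.2 hx1 (E.inv_mem y.2)).2 (Or.inl ?_))
        rw [h, Subgroup.coe_inv, inv_inv]
      · intro h
        exact hc ((D.isConj_iff_eq hodd x.2 hx1 (E.inv_mem y.2)).2 (Or.inr (by rw [h])))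
  have hC : ((∑ χ : IrrCharacter G, aE E χ l * aE E χ m : ℤ) : ℂ) =
      ((Nat.card E : ℂ)⁻¹ * (Nat.card E : ℂ)⁻¹) * ((Nat.card E : ℂ) *
        ((∑ x : E, f x * g x) + ∑ x : E, f x * g x⁻¹)) := by
    rw [Int.cast_sum]
    simp only [Int.cast_mul, aE_eq]
    calc ∑ χ : IrrCharacter G, ((Nat.card E : ℂ)⁻¹ * ∑ x : E, f x * (χ : G → ℂ) x) *
          ((Nat.card E : ℂ)⁻¹ * ∑ y : E, g y * (χ : G → ℂ) y)
        = ((Nat.card E : ℂ)⁻¹ * (Nat.card E : ℂ)⁻¹) * ∑ x : E, ∑ y : E,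
            f x * g y * ∑ χ : IrrCharacter G, (χ : G → ℂ) x * (χ : G → ℂ) y := by
          rw [Finset.sum_congr rfl fun (χ : IrrCharacter G) (_ : χ ∈ Finset.univ) =>
            show _ = ((Nat.card E : ℂ)⁻¹ * (Nat.card E : ℂ)⁻¹) *
              ∑ x : E, ∑ y : E, f x * (χ : G → ℂ) x * (g y * (χ : G → ℂ) y) by
              rw [mul_mul_mul_comm, Finset.sum_mul_sum], ← Finset.mul_sum]
          congr 1
          rw [Finset.sum_comm]
          refine Finset.sum_congr rfl fun x _ => ?_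
          rw [Finset.sum_comm]
          refine Finset.sum_congr rfl fun y _ => ?_
          rw [Finset.mul_sum]
          refine Finset.sum_congr rfl fun χ _ => ?_
          ring
      _ = _ := by
          congr 1
          simp only [key, mul_add, mul_ite, mul_one, mul_zero, Finset.sum_add_distrib,
            Finset.sum_ite_eq', Finset.mem_univ, if_true, Finset.mul_sum]
          congr 1 <;> exact Finset.sum_congr rfl fun x _ => by ring
  have hval : ∀ μ : E →* ℂˣ, μ ≠ 1 → ∑ x : E, f x * (1 - ((μ x⁻¹ : ℂˣ) : ℂ)) =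
      (Nat.card E : ℂ) * (1 + if μ = l⁻¹ then 1 else 0) := by
    intro μ hμ
    have e : ∀ x : E, f x * (1 - ((μ x⁻¹ : ℂˣ) : ℂ)) = 1 - ((l x⁻¹ : ℂˣ) : ℂ) -
        ((μ x⁻¹ : ℂˣ) : ℂ) + (((l * μ) x⁻¹ : ℂˣ) : ℂ) := fun x => by
      simp only [hf, MonoidHom.mul_apply, Units.val_mul]
      ring
    simp only [e, Finset.sum_add_distrib, Finset.sum_sub_distrib, sum_lin_inv, if_neg hl, if_neg hμ,
      sub_zero, Finset.sum_const, Finset.card_univ, nsmul_eq_mul, mul_one, ← Nat.card_eq_fintype_card]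
    by_cases h : μ = l⁻¹
    · have h' : l * μ = 1 := MonoidHom.ext fun x => by
        rw [h, MonoidHom.mul_apply, MonoidHom.inv_apply, mul_inv_cancel, MonoidHom.one_apply]
      rw [if_pos h, if_pos h']; ring
    · have h' : l * μ ≠ 1 := fun h' => h (MonoidHom.ext fun x => by
        rw [MonoidHom.inv_apply]
        exact eq_inv_of_mul_eq_one_right (DFunLike.congr_fun h' x))
      rw [if_neg h, if_neg h']; ring
  have hA : ∑ x : E, f x * g x = (Nat.card E : ℂ) * (1 + if m = l⁻¹ then 1 else 0) := hval m hm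
  have hB : ∑ x : E, f x * g x⁻¹ = (Nat.card E : ℂ) * (1 + if m = l then 1 else 0) := by
    have e := hval m⁻¹ (inv_ne_one (a := m) |>.2 hm)
    rw [show (if m⁻¹ = l⁻¹ then (1 : ℂ) else 0) = if m = l then 1 else 0 from
      if_congr ⟨fun h => MonoidHom.ext fun x => inv_injective (DFunLike.congr_fun h x),
        fun h => by rw [h]⟩ rfl rfl] at e
    rw [← e]
    refine Finset.sum_congr rfl fun x _ => ?_
    simp only [hg, MonoidHom.inv_apply, map_inv]
  have : ((∑ χ : IrrCharacter G, aE E χ l * aE E χ m : ℤ) : ℂ) =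
      ((2 + (if m = l then 1 else 0) + (if m = l⁻¹ then 1 else 0) : ℤ) : ℂ) := by
    rw [hC, hA, hB]
    push_cast
    split_ifs <;> field_simp <;> ring
  exact_mod_cast this

theorem sum_aE_mul [Fintype E] {g : G} (hg : ∀ x ∈ E, x ≠ 1 → ¬ IsConj x g⁻¹) (l : E →* ℂˣ) :
    ∑ χ : IrrCharacter G, (aE E χ l : ℂ) * (χ : G → ℂ) g = 0 := by
  simp only [aE_eq, Finset.mul_sum, Finset.sum_mul]
  rw [Finset.sum_comm]
  refine Finset.sum_eq_zero fun x _ => ?_
  by_cases hx : x = 1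
  · simp [hx]
  have e1 : ∀ χ : IrrCharacter G, (χ : G → ℂ) g = conj ((χ : G → ℂ) g⁻¹) := fun χ => by
    rw [← IsCharacter.inv (IsIrrCharacter.isCharacter χ.2), inv_inv]
  simp only [e1, mul_assoc, ← Finset.mul_sum]
  rw [column_orth_of_not_isConj (hg x x.2 fun h => hx (Subtype.ext h)), mul_zero, mul_zero]

/-- The table. -/
theorem exists_table (ψ : IrrCharacter G) (hψ : charDegree (ψ : G → ℂ) = p)
    (hψP : ∀ y ∈ P, y ≠ 1 → (ψ : G → ℂ) y = 0) :
    ∃ X : (E →* ℂˣ) → IrrCharacter G, ∀ l : E →* ℂˣ, l ≠ 1 →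
      charDegree (X l : G → ℂ) = p + 1 ∧ (∀ y ∈ P, y ≠ 1 → (X l : G → ℂ) y = 1) ∧
      (∀ g, (X l : G → ℂ) g⁻¹ = (X l : G → ℂ) g) ∧
      ∀ m : E →* ℂˣ, m ≠ 1 → X m = X l → m = l ∨ m = l⁻¹ := by
  classical
  haveI : Fintype E := Fintype.ofFinite E
  haveI : Fintype (E →* ℂˣ) := Fintype.ofFinite _
  have hp := D.hp
  have he2 := D.he2
  have hep : Nat.card E < p := by
    have := Nat.le_of_dvd (by have := hp.two_le; omega) D.he
    have := hp.two_le
    omega
  set one : IrrCharacter G := ⟨fun _ => 1, isIrrCharacter_one⟩ with hone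
  have hone1 : ∀ l : E →* ℂˣ, l ≠ 1 → aE E one l = 1 := by
    intro l hl
    have : (aE E one l : ℂ) = 1 := by
      rw [aE_eq]
      show (Nat.card E : ℂ)⁻¹ * ∑ x : E, (1 - ((l x⁻¹ : ℂˣ) : ℂ)) * (1 : ℂ) = 1
      simp only [mul_one, Finset.sum_sub_distrib, sum_lin_inv, if_neg hl, sub_zero,
        Finset.sum_const, Finset.card_univ, nsmul_eq_mul, ← Nat.card_eq_fintype_card]
      rw [inv_mul_cancel₀ (Nat.cast_ne_zero.2 Nat.card_pos.ne')]
    exact_mod_cast this
  have hne : ∀ l : E →* ℂˣ, l ≠ 1 → l ≠ l⁻¹ := by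
    intro l hl h
    refine hl (MonoidHom.ext fun x => ?_)
    have h2 : l x * l x = 1 := by
      nth_rw 2 [h]; rw [MonoidHom.inv_apply, mul_inv_cancel]
    have h3 : l x ^ Nat.card E = 1 := by rw [← map_pow, pow_card_eq_one', map_one]
    obtain ⟨j, hj⟩ := hodd
    rw [hj, pow_succ, pow_mul, sq, h2, one_pow, one_mul] at h3
    exact h3
  have hpair : ∀ l : E →* ℂˣ, l ≠ 1 →
      ∃ i j : IrrCharacter G, i ≠ one ∧ j ≠ one ∧ i ≠ j ∧ (aE E i l = 1 ∨ aE E i l = -1) ∧
        (aE E j l = 1 ∨ aE E j l = -1) ∧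
        (∀ k, k ≠ one → k ≠ i → k ≠ j → aE E k l = 0) ∧
        ∀ F : IrrCharacter G → ℂ, ∑ χ, (aE E χ l : ℂ) * F χ =
          F one + (aE E i l : ℂ) * F i + (aE E j l : ℂ) * F j := by
    intro l hl
    have h := D.gram hodd l l hl hl
    rw [if_pos rfl, if_neg (hne l hl), ← Finset.add_sum_erase _ _ (Finset.mem_univ one),
      hone1 l hl] at h
    obtain ⟨i, hi, j, hj, hij, hai, haj, h0⟩ := two_supp (Finset.univ.erase one) (aE E · l)
      (by linarith)
    refine ⟨i, j, Finset.ne_of_mem_erase hi, Finset.ne_of_mem_erase hj, hij, hai, haj,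
      fun k hk => h0 k (Finset.mem_erase.2 ⟨hk, Finset.mem_univ _⟩), fun F => ?_⟩
    rw [← Finset.add_sum_erase _ _ (Finset.mem_univ one), hone1 l hl, Int.cast_one, one_mul,
      ← Finset.add_sum_erase _ _ hi, ← Finset.add_sum_erase _ _
        (Finset.mem_erase.2 ⟨hij.symm, hj⟩), Finset.sum_eq_zero fun k hk => ?_, add_zero, add_assoc]
    simp only [Finset.mem_erase] at hk
    rw [h0 k (Finset.mem_erase.2 ⟨hk.2.2.1, Finset.mem_univ _⟩) hk.2.1 hk.1, Int.cast_zero, zero_mul]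
  have hsymm : ∀ χ (l : E →* ℂˣ), l ≠ 1 → aE E χ l⁻¹ = aE E χ l := by
    intro χ l hl
    have h0 : ∑ χ : IrrCharacter G, (aE E χ l⁻¹ - aE E χ l) * (aE E χ l⁻¹ - aE E χ l) = 0 := by
      have a1 := D.gram hodd l l hl hl
      have a2 := D.gram hodd l⁻¹ l⁻¹ (inv_ne_one (a := l) |>.2 hl) (inv_ne_one (a := l) |>.2 hl)
      have hii : l⁻¹⁻¹ = l := MonoidHom.ext fun x => inv_inv _
      have a3 := D.gram hodd l⁻¹ l (inv_ne_one (a := l) |>.2 hl) hl
      rw [if_pos rfl, if_neg (hne l hl)] at a1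
      rw [if_pos rfl, hii, if_neg (hne l hl).symm] at a2
      rw [if_neg (hne l hl), hii, if_pos rfl] at a3
      calc ∑ χ : IrrCharacter G, (aE E χ l⁻¹ - aE E χ l) * (aE E χ l⁻¹ - aE E χ l)
          = ∑ χ : IrrCharacter G, (aE E χ l⁻¹ * aE E χ l⁻¹ - 2 * (aE E χ l⁻¹ * aE E χ l) +
              aE E χ l * aE E χ l) := Finset.sum_congr rfl fun χ _ => by ring
        _ = 0 := by
            rw [Finset.sum_add_distrib, Finset.sum_sub_distrib, ← Finset.mul_sum, a1, a2, a3]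
            norm_num
    have := (Finset.sum_eq_zero_iff_of_nonneg fun χ _ => mul_self_nonneg _).1 h0 χ
      (Finset.mem_univ _)
    linarith [mul_self_eq_zero.1 this]
  have hψ1 : (ψ : G → ℂ) 1 = (p : ℂ) := by rw [irr_one_eq_charDegree, hψ]
  have hψone : ψ ≠ one := fun h => hp.ne_one (by
    have h1 := hψ1; rw [h] at h1; change (1 : ℂ) = _ at h1; exact_mod_cast h1.symm)
  have hsum : ∑ l : E →* ℂˣ, (nE E ψ l : ℂ) = (p : ℂ) := by
    simp only [nE_eq, ← Finset.mul_sum]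
    rw [Finset.sum_comm]
    simp only [← Finset.mul_sum]
    have hh : ∀ x : E, ∑ l : E →* ℂˣ, ((l x⁻¹ : ℂˣ) : ℂ) = if x = 1 then (Nat.card E : ℂ) else 0 :=
      fun x => by
        letI : CommGroup E :=
          { (inferInstance : Group E) with
            mul_comm := fun a b => Subtype.ext (D.commE a.2 b.2) }
        refine (CoprimeConst.sum_hom_apply (A := E) x⁻¹).trans ?_
        simp
    simp only [hh, mul_ite, mul_zero, Finset.sum_ite_eq', Finset.mem_univ, if_true,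
      Subgroup.coe_one, hψ1]
    rw [mul_comm (p : ℂ), inv_mul_cancel_left₀ (Nat.cast_ne_zero.2 Nat.card_pos.ne')]
  have hsumN : ∑ l : E →* ℂˣ, nE E ψ l = p := by exact_mod_cast hsum
  have hcardD : Fintype.card (E →* ℂˣ) = Nat.card E := by
    letI : CommGroup E :=
      { (inferInstance : Group E) with
        mul_comm := fun a b => Subtype.ext (D.commE a.2 b.2) }
    haveI : NeZero (Monoid.exponent E : ℂ) :=
      ⟨Nat.cast_ne_zero.mpr Monoid.exponent_ne_zero_of_finite⟩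
    rw [← Nat.card_eq_fintype_card, CommGroup.card_monoidHom_of_hasEnoughRootsOfUnity]
  have hep' : ¬ Nat.card E ∣ p := fun h => by
    rcases hp.eq_one_or_self_of_dvd _ h with e | e <;> omega
  have hsumA : ∑ l : E →* ℂˣ, aE E ψ l = (Nat.card E : ℤ) * nE E ψ 1 - p := by
    simp only [aE, Finset.sum_sub_distrib, Finset.sum_const, Finset.card_univ, hcardD, nsmul_eq_mul]
    rw [← Nat.cast_sum, hsumN]
  have h1deg : ∀ l, ∑ χ : IrrCharacter G, (aE E χ l : ℂ) * (χ : G → ℂ) 1 = 0 := fun l =>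
    D.sum_aE_mul hodd (fun x _ hx1 hc => hx1 (by rwa [inv_one, isConj_one_left] at hc)) l
  have hydeg : ∀ y ∈ P, y ≠ 1 → ∀ l,
      ∑ χ : IrrCharacter G, (aE E χ l : ℂ) * (χ : G → ℂ) y = 0 := by
    refine fun y hy hy1 l => D.sum_aE_mul hodd (fun x hx hx1 hc => ?_) l
    have hyo : orderOf y⁻¹ = p := by
      rw [orderOf_inv]
      exact (hp.eq_one_or_self_of_dvd _ ((Subgroup.orderOf_dvd_natCard P hy).trans D.hP.dvd)).resolve_left
        fun h => hy1 (orderOf_eq_one_iff.1 h)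
    obtain ⟨g, hg⟩ := isConj_iff.1 hc
    have hxo : orderOf x = p := by
      rw [← hyo, ← hg]; exact ((MulAut.conj g).orderOf_eq x).symm
    have := Nat.le_of_dvd Nat.card_pos (hxo ▸ Subgroup.orderOf_dvd_natCard E hx)
    omega
  obtain ⟨l0, hl0, hal0⟩ : ∃ l, l ≠ 1 ∧ aE E ψ l ≠ 0 := by
    by_contra hn
    push Not at hn
    have h0 : ∑ l : E →* ℂˣ, aE E ψ l = 0 := Finset.sum_eq_zero fun l _ => by
      by_cases hl : l = 1
      · rw [hl, aE, sub_self]
      · exact hn l hl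
    rw [h0] at hsumA
    exact hep' ⟨nE E ψ 1, by exact_mod_cast (show (p : ℤ) = Nat.card E * nE E ψ 1 by linarith)⟩
  -- `ψ` occurs in every pair
  have hall : ∀ l : E →* ℂˣ, l ≠ 1 → aE E ψ l ≠ 0 := by
    intro m hm ham
    obtain ⟨i, j, hi, hj, hij, hai, haj, h0, hF⟩ := hpair l0 hl0
    obtain ⟨η, hη, hηψ, haη, hF⟩ : ∃ η, η ≠ one ∧ η ≠ ψ ∧ (aE E η l0 = 1 ∨ aE E η l0 = -1) ∧
        ∀ F : IrrCharacter G → ℂ, ∑ χ, (aE E χ l0 : ℂ) * F χ =
          F one + (aE E ψ l0 : ℂ) * F ψ + (aE E η l0 : ℂ) * F η := by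
      have hψij : ψ = i ∨ ψ = j := by
        by_contra h
        push Not at h
        exact hal0 (h0 ψ hψone h.1 h.2)
      rcases hψij with rfl | rfl
      · exact ⟨j, hj, hij.symm, haj, hF⟩
      · exact ⟨i, hi, hij, hai, fun F => by rw [hF]; ring⟩
    have hml : m ≠ l0 := fun h => hal0 (h ▸ ham)
    have hml' : m ≠ l0⁻¹ := fun h => hal0 (by rw [← hsymm ψ l0 hl0, ← h]; exact ham)
    have hg := D.gram hodd l0 m hl0 hm
    rw [if_neg hml, if_neg hml'] at hg
    have hg' : ((∑ χ : IrrCharacter G, aE E χ l0 * aE E χ m : ℤ) : ℂ) = 2 := by rw [hg]; norm_num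
    push_cast at hg'
    rw [hF fun χ => (aE E χ m : ℂ), ham, hone1 m hm] at hg'
    push_cast at hg'
    have hηm : aE E η m = aE E η l0 := by
      have h1 : aE E η l0 * aE E η m = 1 := by
        have : (aE E η l0 : ℂ) * (aE E η m : ℂ) = 1 := by linear_combination hg'
        exact_mod_cast this
      rcases haη with e | e <;> rw [e] at h1 ⊢ <;> linarith
    obtain ⟨i', j', hi', hj', hij', hai', haj', h0', hF'⟩ := hpair m hm
    obtain ⟨ζ, hζψ, haζ, hF'⟩ : ∃ ζ, ζ ≠ ψ ∧ (aE E ζ m = 1 ∨ aE E ζ m = -1) ∧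
        ∀ F : IrrCharacter G → ℂ, ∑ χ, (aE E χ m : ℂ) * F χ =
          F one + (aE E η m : ℂ) * F η + (aE E ζ m : ℂ) * F ζ := by
      have hηij : η = i' ∨ η = j' := by
        by_contra h
        push Not at h
        have := h0' η hη h.1 h.2
        rw [hηm] at this
        omega
      rcases hηij with rfl | rfl
      · refine ⟨j', fun h => ?_, haj', hF'⟩
        rw [h] at haj'; omega
      · refine ⟨i', fun h => ?_, hai', fun F => by rw [hF']; ring⟩
        rw [h] at hai'; omega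
    have e1 := h1deg l0
    rw [hF fun χ => (χ : G → ℂ) 1] at e1
    have e2 := h1deg m
    rw [hF' fun χ => (χ : G → ℂ) 1, hηm] at e2
    have hc : (aE E ζ m : ℂ) * (ζ : G → ℂ) 1 = (aE E ψ l0 : ℂ) * (p : ℂ) := by
      rw [← hψ1]; linear_combination e2 - e1
    have hζp : (charDegree (ζ : G → ℂ) : ℤ) = p := by
      have hc' : aE E ζ m * (charDegree (ζ : G → ℂ) : ℤ) = aE E ψ l0 * p := by
        rw [irr_one_eq_charDegree] at hc
        exact_mod_cast hc
      have hψa : aE E ψ l0 = 1 ∨ aE E ψ l0 = -1 := by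
        by_cases h : ψ = i
        · exact h ▸ hai
        by_cases h' : ψ = j
        · exact h' ▸ haj
        exact absurd (h0 ψ hψone h h') hal0
      have h1 := charDegree_pos ζ
      have h2 := hp.pos
      rcases haζ with e | e <;> rcases hψa with e' | e' <;> rw [e, e'] at hc' <;> omega
    exact hζψ ((D.huniq.unique (by exact_mod_cast hζp) hψ))
  have hsign : ∀ l : E →* ℂˣ, l ≠ 1 → ∃ X, X ≠ one ∧ X ≠ ψ ∧ (aE E X l = 1 ∨ aE E X l = -1) ∧
      (aE E ψ l = 1 ∨ aE E ψ l = -1) ∧ (∀ k, k ≠ one → k ≠ ψ → k ≠ X → aE E k l = 0) ∧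
      ∀ F : IrrCharacter G → ℂ, ∑ χ, (aE E χ l : ℂ) * F χ =
          F one + (aE E ψ l : ℂ) * F ψ + (aE E X l : ℂ) * F X := by
    intro l hl
    obtain ⟨i, j, hi, hj, hij, hai, haj, h0, hF⟩ := hpair l hl
    have hψij : ψ = i ∨ ψ = j := by
      by_contra h
      push Not at h
      exact hall l hl (h0 ψ hψone h.1 h.2)
    rcases hψij with rfl | rfl
    · exact ⟨j, hj, hij.symm, haj, hai, h0, hF⟩
    · exact ⟨i, hi, hij, hai, haj, fun k a b c => h0 k a c b, fun F => by rw [hF]; ring⟩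
  haveI : Nonempty (IrrCharacter G) := ⟨one⟩
  choose! X hXone hXψ hXa hψa hX0 hXF using hsign
  have hgramX : ∀ l m : E →* ℂˣ, l ≠ 1 → m ≠ 1 →
      1 + aE E ψ l * aE E ψ m + aE E (X l) l * aE E (X l) m =
        2 + (if m = l then 1 else 0) + (if m = l⁻¹ then 1 else 0) := by
    intro l m hl hm
    rw [← D.gram hodd l m hl hm]
    have h := hXF l hl fun χ => (aE E χ m : ℂ)
    rw [hone1 m hm] at h
    have h' : ((∑ χ : IrrCharacter G, aE E χ l * aE E χ m : ℤ) : ℂ) =
        ((1 + aE E ψ l * aE E ψ m + aE E (X l) l * aE E (X l) m : ℤ) : ℂ) := by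
      push_cast at h ⊢
      exact h
    exact_mod_cast h'.symm
  -- all the signs are positive
  have hψ_eq : ∀ l : E →* ℂˣ, l ≠ 1 → aE E ψ l = 1 := by
    have hconst : ∀ l : E →* ℂˣ, l ≠ 1 → aE E ψ l = aE E ψ l0 := by
      intro l hl
      by_contra hne'
      have h1 : l ≠ l0 := fun h => hne' (by rw [h])
      have h2 : l ≠ l0⁻¹ := fun h => hne' (by rw [h, hsymm ψ l0 hl0])
      have hg := hgramX l0 l hl0 hl
      rw [if_neg h1, if_neg h2] at hg
      have hb : aE E (X l0) l = 0 ∨ aE E (X l0) l = 1 ∨ aE E (X l0) l = -1 := by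
        by_cases h : X l0 = X l
        · rw [h]; exact Or.inr (hXa l hl)
        · exact Or.inl (hX0 l hl _ (hXone l0 hl0) (hXψ l0 hl0) h)
      rcases hψa l hl with e | e <;> rcases hψa l0 hl0 with e' | e' <;>
        rcases hXa l0 hl0 with f | f <;> rw [e, e'] at hne' <;> rw [e, e', f] at hg <;> omega
    have hs : ∑ l : E →* ℂˣ, aE E ψ l = ((Nat.card E : ℤ) - 1) * aE E ψ l0 := by
      rw [← Finset.add_sum_erase _ _ (Finset.mem_univ (1 : E →* ℂˣ)),
        show aE E ψ 1 = 0 from sub_self _, zero_add,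
        Finset.sum_congr rfl fun l hl => hconst l (Finset.ne_of_mem_erase hl), Finset.sum_const,
        Finset.card_erase_of_mem (Finset.mem_univ _), Finset.card_univ, hcardD, nsmul_eq_mul,
        Nat.cast_sub (by omega), Nat.cast_one]
    intro l hl
    rw [hconst l hl]
    refine (hψa l0 hl0).resolve_right fun e => ?_
    rw [hs, e] at hsumA
    obtain ⟨k, hk⟩ := D.he
    have h1 : (Nat.card E : ℤ) ∣ 2 := by
      refine ⟨nE E ψ 1 - k + 1, ?_⟩
      have hk' : (p : ℤ) - 1 = (Nat.card E : ℤ) * k := by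
        rw [← Nat.cast_mul, ← hk, Nat.cast_sub hp.pos, Nat.cast_one]
      linear_combination hsumA - hk'
    have h2 : Nat.card E = 2 := by
      have h3 : Nat.card E ∣ 2 := by exact_mod_cast h1
      have := Nat.le_of_dvd two_pos h3
      omega
    rw [h2] at hodd
    norm_num at hodd
  have hXdeg : ∀ l : E →* ℂˣ, l ≠ 1 →
      aE E (X l) l = -1 ∧ charDegree (X l : G → ℂ) = p + 1 := by
    intro l hl
    have h := h1deg l
    rw [hXF l hl fun χ => (χ : G → ℂ) 1, hψ_eq l hl, irr_one_eq_charDegree (X l), hψ1] at h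
    change (1 : ℂ) + ((1 : ℤ) : ℂ) * (p : ℂ) + _ = 0 at h
    have h' : 1 + (p : ℤ) + aE E (X l) l * (charDegree (X l : G → ℂ) : ℤ) = 0 := by
      push_cast at h; rw [one_mul] at h; exact_mod_cast h
    rcases hXa l hl with e | e <;> rw [e] at h'
    · exfalso; omega
    · exact ⟨e, by omega⟩
  refine ⟨X, fun l hl => ⟨(hXdeg l hl).2, fun y hy hy1 => ?_, ?_, fun m hm hXm => ?_⟩⟩
  · have h := hydeg y hy hy1 l
    rw [hXF l hl fun χ => (χ : G → ℂ) y, hψP y hy hy1, (hXdeg l hl).1] at h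
    change (1 : ℂ) + _ + _ = 0 at h
    push_cast at h
    linear_combination -h
  · set X' : IrrCharacter G := ⟨_, IsIrrCharacter.conj (X l).2⟩ with hX'
    have hval : ∀ g, (X' : G → ℂ) g = (X l : G → ℂ) g⁻¹ := fun g =>
      (IsCharacter.inv (IsIrrCharacter.isCharacter (X l).2) g).symm
    suffices X' = X l by
      intro g; rw [← hval g, this]
    have ha : aE E X' l = aE E (X l) l := by
      rw [← hsymm (X l) l hl]
      have : (aE E X' l : ℂ) = (aE E (X l) l⁻¹ : ℂ) := by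
        rw [aE_eq, aE_eq]
        congr 1
        refine Fintype.sum_equiv (Equiv.inv E) _ _ fun x => ?_
        simp [hval]
      exact_mod_cast this
    have hdeg : (charDegree (X' : G → ℂ) : ℂ) = ((p + 1 : ℕ) : ℂ) := by
      rw [← irr_one_eq_charDegree, hval, inv_one, irr_one_eq_charDegree, (hXdeg l hl).2]
    have hdeg' : charDegree (X' : G → ℂ) = p + 1 := by exact_mod_cast hdeg
    by_contra hne'
    rw [(hXdeg l hl).1] at ha
    have := hX0 l hl X' ?_ ?_ hne'
    · omega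
    · intro h
      have h1 := irr_one_eq_charDegree X'
      rw [hdeg', h] at h1
      change (1 : ℂ) = _ at h1
      have : (1 : ℕ) = p + 1 := by exact_mod_cast h1
      have := hp.pos
      omega
    · intro h
      rw [h, hψ] at hdeg'
      omega
  · by_contra hn
    push Not at hn
    have hg := hgramX l m hl hm
    rw [if_neg hn.1, if_neg hn.2, hψ_eq l hl, hψ_eq m hm, ← hXm] at hg
    rw [hXm, (hXdeg l hl).1, ← hXm, (hXdeg m hm).1] at hg
    norm_num at hg

end Data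

end Cfsg.Agent.UniqueDegree
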