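/-
An involution in the TI complement: dihedral Sylow subgroups and the characterisation of
`PSL(2, q)`.
-/
import Cfsg.Agent.Lib.UniqueDegree.Common
import Cfsg.Agent.Lib.PLocal.MaxClass
import Cfsg.Agent.Lib.Transfer.SignThompson
import Cfsg.Agent.Lib.BSW.Main
import Cfsg.Agent.Lib.BSW.Dihedral
import Cfsg.Agent.Lib.BSW.Zass
import Mathlib.GroupTheory.Focal

set_option linter.unusedSectionVars false
set_option linter.style.haveILetI false

namespace Cfsg.Agent.UniqueDegree

open Cfsg
open scoped commutatorElement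

universe u

variable {G : Type u} [Group G] [Fintype G] {p : ℕ} {P E : Subgroup G}

local notation "M" => Subgroup.normalizer (E : Set G)

namespace Data

variable (D : Data p P E) {u : G} (hu : u ∈ E) (huo : orderOf u = 2)
include D hu huo

theorem eq_of_sq {x : G} (hx : x ∈ E) (hx2 : x * x = 1) : x = 1 ∨ x = u := by
  by_cases h1 : x = 1
  · exact Or.inl h1
  refine Or.inr ?_
  have ho : orderOf x = 2 := orderOf_eq_prime (by rw [sq, hx2]) h1
  obtain ⟨i, hi⟩ := Subgroup.mem_zpowers_iff.1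
    (D.mem_zpowers_of_prime_order Nat.prime_two hu hx huo ho)
  rcases Int.even_or_odd i with ⟨j, rfl⟩ | ⟨j, rfl⟩
  · refine absurd ?_ h1
    rw [← hi, ← two_mul, zpow_mul, zpow_ofNat, ← huo, pow_orderOf_eq_one, one_zpow]
  · rw [← hi, zpow_add, zpow_mul, zpow_ofNat, ← huo, pow_orderOf_eq_one, one_zpow, one_mul, zpow_one]

theorem u_ne : u ≠ 1 := fun h => by rw [h, orderOf_one] at huo; norm_num at huo

theorem sq_u : u * u = 1 := by rw [← sq, ← huo, pow_orderOf_eq_one]

theorem comm_u_iff {g : G} : g * u = u * g ↔ g ∈ M := by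
  refine ⟨D.mem_M_of_comm hu (D.u_ne hu huo), fun hg => ?_⟩
  rcases D.eq_of_sq hu huo (D.conjM hg hu)
    (by rw [conj_mul, D.sq_u hu huo]; group) with h | h
  · exact absurd (conj_eq_one_iff.1 h) (D.u_ne hu huo)
  · exact mul_inv_eq_iff_eq_mul.1 h

/-- The Sylow 2-subgroups of `G` lie in conjugates of the normaliser. -/
theorem sylow_le (S : Sylow 2 G) (huS : u ∈ (S : Subgroup G))
    (hT : ¬ 2 * Nat.card ↥((S : Subgroup G) ⊓ M) ∣ 2 * Nat.card E) : (S : Subgroup G) ≤ M := by
  classical
  haveI : Fact (Nat.Prime 2) := ⟨Nat.prime_two⟩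
  haveI := D.hsimple
  by_contra hSM
  set T := (S : Subgroup G) ⊓ M with hTdef
  haveI : Group.IsNilpotent (S : Subgroup G) := S.2.isNilpotent
  obtain ⟨r, hr, hr'⟩ : ∃ r ∈ Subgroup.normalizer ((T.subgroupOf S : Subgroup (S : Subgroup G)) :
      Set (S : Subgroup G)), r ∉ T.subgroupOf S := by
    have hlt : T.subgroupOf S < ⊤ := lt_top_iff_ne_top.2 fun h =>
      hSM ((Subgroup.subgroupOf_eq_top.1 h).trans inf_le_right)
    exact (SetLike.lt_iff_le_and_exists.1 (normalizerCondition_of_isNilpotent _ hlt)).2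
  have hrS : (r : G) ∈ (S : Subgroup G) := r.2
  have hrM : (r : G) ∉ M := fun h => hr' ⟨hrS, h⟩
  have hrT : ∀ x ∈ T, (r : G) * x * (r : G)⁻¹ ∈ T := fun x hx =>
    (Subgroup.mem_normalizer_iff.1 hr ⟨x, hx.1⟩).1 hx
  have huM : u ∈ M := Subgroup.le_normalizer hu
  -- the exponent is two
  have hexp : ∀ x ∈ T, x * x = 1 := by
    intro x hx
    by_contra h
    refine hrM (D.mem_M_of_fusion ((D.mul_mem_iff hx.2 hx.2).2 Iff.rfl) h ?_)
    have := hrT x hx
    rw [show (r : G) * (x * x) * (r : G)⁻¹ =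
      ((r : G) * x * (r : G)⁻¹) * ((r : G) * x * (r : G)⁻¹) by group]
    exact (D.mul_mem_iff this.2 this.2).2 Iff.rfl
  set v := (r : G) * u * (r : G)⁻¹ with hv
  have hvT : v ∈ T := hrT u ⟨huS, huM⟩
  have hvE : v ∉ E := fun h => hrM (D.mem_M_of_fusion hu (D.u_ne hu huo) h)
  have hfour : ∀ x ∈ T, x = 1 ∨ x = u ∨ x = v ∨ x = u * v := by
    intro x hx
    by_cases hxE : x ∈ E
    · rcases D.eq_of_sq hu huo hxE (hexp x hx) with h | h <;> simp [h]
    · have h1 : x * v ∈ E := (D.mul_mem_iff hx.2 hvT.2).2 (iff_of_false hxE hvE)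
      rcases D.eq_of_sq hu huo h1 (hexp _ (T.mul_mem hx hvT)) with h | h
      · refine Or.inr (Or.inr (Or.inl ?_))
        calc x = (x * v) * v := by rw [mul_assoc, hexp v hvT, mul_one]
          _ = v := by rw [h, one_mul]
      · refine Or.inr (Or.inr (Or.inr ?_))
        calc x = (x * v) * v := by rw [mul_assoc, hexp v hvT, mul_one]
          _ = u * v := by rw [h]
  have hTcard : Nat.card T = 4 := by
    have hu1 := D.u_ne hu huo
    have hv1 : v ≠ 1 := fun h => hvE (h ▸ E.one_mem)
    have huv : u ≠ v := fun h => hvE (h ▸ hu)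
    have hset : (T : Set G) = {1, u, v, u * v} := by
      ext x
      constructor
      · intro hx; simpa using hfour x hx
      · intro hx
        simp only [Set.mem_insert_iff, Set.mem_singleton_iff] at hx
        rcases hx with rfl | rfl | rfl | rfl
        exacts [T.one_mem, ⟨huS, huM⟩, hvT, T.mul_mem ⟨huS, huM⟩ hvT]
    rw [← SetLike.coe_sort_coe, Nat.card_coe_set_eq, hset]
    have e1 : (1 : G) ≠ u * v := fun h => hvE (eq_comm.1 h |> fun h => by
      rw [← inv_eq_of_mul_eq_one_right h]; exact E.inv_mem hu)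
    have e2 : u ≠ u * v := fun h => hv1 (left_eq_mul.1 h)
    have e3 : v ≠ u * v := fun h => hu1 (right_eq_mul.1 h)
    rw [Set.ncard_insert_of_notMem (by simp [hu1.symm, hv1.symm, e1]),
      Set.ncard_insert_of_notMem (by simp [huv, e2]), Set.ncard_pair e3]
  -- the two-subgroups of the normaliser
  obtain ⟨T₁, hT₁⟩ := (show IsPGroup 2 (T.subgroupOf M) from
    (S.2.to_le (inf_le_left : T ≤ S)).of_equiv
      (Subgroup.subgroupOfEquivOfLe (inf_le_right : T ≤ M)).symm).exists_le_sylow
  have hcM : Nat.card (T.subgroupOf M) = 4 := by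
    rw [Nat.card_congr (Subgroup.subgroupOfEquivOfLe (inf_le_right : T ≤ M)).toEquiv, hTcard]
  have hT₁eq : T.subgroupOf M = (T₁ : Subgroup M) := by
    refine Subgroup.eq_of_le_of_card_ge hT₁ ?_
    obtain ⟨j, hj⟩ := T₁.2.exists_card_eq
    rw [hj, hcM]
    have h1 : 2 ^ j ∣ 2 * Nat.card E := by
      rw [← hj, ← D.hM]; exact Subgroup.card_subgroup_dvd_card _
    have h2 : j ≤ 2 := by
      by_contra h
      refine hT ?_
      rw [hTcard]
      exact (show 2 * 4 ∣ 2 ^ j from pow_dvd_pow 2 (show 3 ≤ j by omega)).trans h1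
    exact (Nat.pow_le_pow_right two_pos h2).trans (le_of_eq rfl)
  -- centralisers in `S` of conjugates of `u`
  have hcent : ∀ i ∈ (S : Subgroup G), IsConj u i →
      Nat.card ↥((S : Subgroup G) ⊓ Subgroup.centralizer ({i} : Set G)) ≤ 4 ∧
        ∀ x ∈ (S : Subgroup G), x * i = i * x → x * x = 1 := by
    intro i hi hconj
    obtain ⟨g, hg⟩ := isConj_iff.1 hconj
    set H := (S : Subgroup G) ⊓ Subgroup.centralizer ({i} : Set G) with hH
    have hle : H.map (MulAut.conj g⁻¹).toMonoidHom ≤ M := by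
      rintro _ ⟨x, hx, rfl⟩
      refine (D.comm_u_iff hu huo).1 ?_
      have hxi : x * i = i * x := by
        have := Subgroup.mem_centralizer_singleton_iff.1 hx.2
        exact this
      show g⁻¹ * x * g⁻¹⁻¹ * u = u * (g⁻¹ * x * g⁻¹⁻¹)
      have hu' : u = g⁻¹ * i * g := by rw [← hg]; group
      calc g⁻¹ * x * g⁻¹⁻¹ * u = g⁻¹ * (x * i) * g := by rw [hu']; group
        _ = g⁻¹ * (i * x) * g := by rw [hxi]
        _ = u * (g⁻¹ * x * g⁻¹⁻¹) := by rw [hu']; group
    have hpg : IsPGroup 2 ((H.map (MulAut.conj g⁻¹).toMonoidHom).subgroupOf M) :=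
      ((S.2.to_le (inf_le_left : H ≤ S)).map _).of_equiv
        (Subgroup.subgroupOfEquivOfLe hle).symm
    obtain ⟨T₂, hT₂⟩ := hpg.exists_le_sylow
    let ε : (T₂ : Subgroup M) ≃* (T₁ : Subgroup M) := Sylow.equiv T₂ T₁
    constructor
    · have h1 := Subgroup.card_le_of_le hT₂
      rw [Nat.card_congr ε.toEquiv, ← hT₁eq, hcM,
        Nat.card_congr (Subgroup.subgroupOfEquivOfLe hle).toEquiv,
        Subgroup.card_map_of_injective (MulAut.conj g⁻¹).injective] at h1
      exact h1
    · intro x hx hxi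
      have hxH : x ∈ H := ⟨hx, Subgroup.mem_centralizer_singleton_iff.2 hxi⟩
      have hxM : g⁻¹ * x * g⁻¹⁻¹ ∈ M := hle ⟨x, hxH, rfl⟩
      have hx2 : (⟨_, hxM⟩ : M) ∈ (T₂ : Subgroup M) := hT₂ ⟨x, hxH, rfl⟩
      have h4 : ε ⟨_, hx2⟩ * ε ⟨_, hx2⟩ = 1 := by
        have h5 : ((ε ⟨_, hx2⟩ : (T₁ : Subgroup M)) : M) ∈ T.subgroupOf M := by
          rw [hT₁eq]; exact (ε ⟨_, hx2⟩).2
        exact Subtype.ext (Subtype.ext (hexp _ h5))
      rw [← map_mul, map_eq_one_iff _ ε.injective] at h4
      have h6 : (g⁻¹ * x * g⁻¹⁻¹) * (g⁻¹ * x * g⁻¹⁻¹) = 1 :=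
        congrArg (fun z : (T₂ : Subgroup M) => ((z : M) : G)) h4
      calc x * x = g * ((g⁻¹ * x * g⁻¹⁻¹) * (g⁻¹ * x * g⁻¹⁻¹)) * g⁻¹ := by group
        _ = 1 := by rw [h6]; group
  -- the commutator subgroup of `S`
  set C := commutator (S : Subgroup G) with hC
  have hbig : 8 ≤ Nat.card (S : Subgroup G) := by
    obtain ⟨j, hj⟩ := S.2.exists_card_eq
    have h1 : Nat.card T < Nat.card (S : Subgroup G) := by
      refine lt_of_le_of_ne (Subgroup.card_le_of_le inf_le_left) fun h => hSM ?_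
      rw [← Subgroup.eq_of_le_of_card_ge (inf_le_left : T ≤ S) h.ge]
      exact inf_le_right
    rw [hTcard, hj] at h1
    rw [hj]
    have h2 : 3 ≤ j := by
      by_contra h
      have := Nat.pow_le_pow_right (show 0 < 2 by norm_num) (show j ≤ 2 by omega)
      omega
    calc 8 = 2 ^ 3 := rfl
      _ ≤ 2 ^ j := Nat.pow_le_pow_right two_pos h2
  have hnab : C ≠ ⊥ := by
    intro h
    have hc : ∀ a b : (S : Subgroup G), a * b = b * a := fun a b => by
      have : ⁅a, b⁆ ∈ C := Subgroup.commutator_mem_commutator trivial trivial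
      rw [h, Subgroup.mem_bot, commutatorElement_eq_one_iff_mul_comm] at this
      exact this
    have h1 := (hcent u huS (IsConj.refl u)).1
    rw [inf_eq_left.2 fun x hx => Subgroup.mem_centralizer_singleton_iff.2
      (congrArg Subtype.val (hc ⟨x, hx⟩ ⟨u, huS⟩))] at h1
    omega
  have hidx4 : 4 ≤ C.index := MaxClass.sq_le_index_commutator S.2 hnab
  have hkey : ∀ i : (S : Subgroup G), IsConj u (i : G) →
      C.index = 4 ∧ ∀ d ∈ C, IsConj i (i * d) := by
    intro i hi
    have h1 := (hcent _ i.2 hi).1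
    have h2 := Blocks.card_isConj_eq_index i
    have h3 : Nat.card (Subgroup.centralizer ({i} : Set (S : Subgroup G))) ≤ 4 := by
      refine le_trans (le_of_eq ?_) h1
      rw [← Nat.card_congr (Subgroup.subgroupOfEquivOfLe (inf_le_left :
        (S : Subgroup G) ⊓ Subgroup.centralizer ({(i : G)} : Set G) ≤ S)).toEquiv]
      congr 2
      ext x
      rw [Subgroup.mem_centralizer_singleton_iff, Subgroup.mem_subgroupOf, Subgroup.mem_inf,
        Subgroup.mem_centralizer_singleton_iff, Subtype.ext_iff]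
      exact ⟨fun h => ⟨x.2, h⟩, fun h => h.2⟩
    let f : {x : (S : Subgroup G) // IsConj i x} → C := fun x => ⟨i⁻¹ * x.1, by
      obtain ⟨c, hc⟩ := isConj_iff.1 x.2
      rw [← hc, show i⁻¹ * (c * i * c⁻¹) = ⁅i⁻¹, c⁆ by rw [commutatorElement_def]; group]
      exact Subgroup.commutator_mem_commutator trivial trivial⟩
    have hf : Function.Injective f := fun x y h =>
      Subtype.ext (mul_left_cancel (congrArg Subtype.val h))
    have h4 := Nat.card_le_card_of_injective f hf
    have h5 := C.card_mul_index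
    have h6 := (Subgroup.centralizer ({i} : Set (S : Subgroup G))).card_mul_index
    rw [← h2] at h6
    have h7 : Nat.card C * 4 ≤ Nat.card C * C.index := Nat.mul_le_mul_left _ hidx4
    have h8 : Nat.card (Subgroup.centralizer ({i} : Set (S : Subgroup G))) *
        Nat.card {x : (S : Subgroup G) // IsConj i x} ≤
        4 * Nat.card {x : (S : Subgroup G) // IsConj i x} := Nat.mul_le_mul_right _ h3
    have hC0 : 0 < Nat.card C := Nat.card_pos
    have h9 : Nat.card {x : (S : Subgroup G) // IsConj i x} = Nat.card C := by omega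
    refine ⟨Nat.eq_of_mul_eq_mul_left hC0 (by omega), fun d hd => ?_⟩
    obtain ⟨x, hx⟩ := ((Nat.bijective_iff_injective_and_card f).2 ⟨hf, h9⟩).2 ⟨d, hd⟩
    rw [← show i⁻¹ * x.1 = d from congrArg Subtype.val hx, mul_inv_cancel_left]
    exact x.2
  set u' : (S : Subgroup G) := ⟨u, huS⟩
  obtain ⟨hC4, huC⟩ := hkey u' (IsConj.refl u)
  have hGu : ∀ d ∈ C, IsConj u ((u' * d : (S : Subgroup G)) : G) := fun d hd =>
    (S : Subgroup G).subtype.map_isConj (huC d hd)
  have hinv : ∀ i : (S : Subgroup G), IsConj u (i : G) → ∀ d ∈ C, i * d * i⁻¹ = d⁻¹ := by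
    intro i hi d hd
    have hsq : ∀ y : (S : Subgroup G), IsConj u (y : G) → y * y = 1 := fun y hy => Subtype.ext (by
      obtain ⟨g, hg⟩ := isConj_iff.1 hy
      show (y : G) * y = 1
      rw [← hg, show g * u * g⁻¹ * (g * u * g⁻¹) = g * (u * u) * g⁻¹ by group, D.sq_u hu huo]
      group)
    have h1 := hsq (i * d) (hi.trans ((S : Subgroup G).subtype.map_isConj ((hkey i hi).2 d hd)))
    rw [inv_eq_of_mul_eq_one_right (hsq i hi)]
    refine (inv_eq_of_mul_eq_one_right ?_).symm
    calc d * (i * d * i) = d * (i * d * (i * d)) * d⁻¹ := by group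
      _ = 1 := by rw [h1]; group
  have hCab : ∀ a ∈ C, ∀ b ∈ C, a * b = b * a := by
    intro a ha b hb
    have h := hinv u' (IsConj.refl u)
    have h1 := h _ (C.mul_mem ha hb)
    rw [← conj_mul, h a ha, h b hb, mul_inv_rev] at h1
    have h2 := congrArg (·⁻¹) h1
    simp only [mul_inv_rev, inv_inv] at h2
    exact h2.symm
  have huC' : u' ∉ C := by
    intro h
    have h1 := hGu u'⁻¹ (C.inv_mem h)
    rw [mul_inv_cancel, Subgroup.coe_one, isConj_one_left] at h1
    exact D.u_ne hu huo h1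
  -- the central involution
  have hvC : ∀ hvS : v ∈ (S : Subgroup G), u'⁻¹ * ⟨v, hvS⟩ ∈ C := fun hvS => by
    have e : (⟨v, hvS⟩ : (S : Subgroup G)) = r * u' * r⁻¹ := Subtype.ext rfl
    rw [e, show u'⁻¹ * (r * u' * r⁻¹) = ⁅u'⁻¹, r⁆ by rw [commutatorElement_def]; group]
    exact Subgroup.commutator_mem_commutator trivial trivial
  set z := u'⁻¹ * ⟨v, hvT.1⟩ with hzdef
  have hzC : z ∈ C := hvC hvT.1
  have hz1 : z ≠ 1 := fun h => hvE (by
    have := inv_mul_eq_one.1 h
    rw [← show u = v from congrArg Subtype.val this]; exact hu)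
  have honly : ∀ d ∈ C, d * d = 1 → d = 1 ∨ d = z := by
    intro d hd hd2
    have h1 := hinv u' (IsConj.refl u) d hd
    rw [inv_eq_of_mul_eq_one_right hd2, mul_inv_eq_iff_eq_mul] at h1
    have hdT : (d : G) ∈ T := ⟨d.2, (D.comm_u_iff hu huo).1 (congrArg Subtype.val h1).symm⟩
    rcases hfour _ hdT with h | h | h | h
    · exact Or.inl (Subtype.ext h)
    · exact absurd ((Subtype.ext h : d = u') ▸ hd) huC'
    · exfalso
      have hdv : d = ⟨v, hvT.1⟩ := Subtype.ext h
      have h2 : u'⁻¹ ∈ C := by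
        have := C.mul_mem hzC (C.inv_mem (hdv ▸ hd))
        rwa [hzdef, mul_inv_cancel_right] at this
      exact huC' (C.inv_mem_iff.1 h2)
    · exact Or.inr (Subtype.ext (by
        rw [h]
        show u * v = u⁻¹ * v
        rw [inv_eq_of_mul_eq_one_right (D.sq_u hu huo)]))
  have hnone : ∀ d ∈ C, ¬ IsConj u (d : G) := by
    intro d hd hcj
    have hd2 : d * d = 1 := Subtype.ext (by
      obtain ⟨g, hg⟩ := isConj_iff.1 hcj
      show (d : G) * d = 1
      rw [← hg, show g * u * g⁻¹ * (g * u * g⁻¹) = g * (u * u) * g⁻¹ by group, D.sq_u hu huo]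
      group)
    rcases honly d hd hd2 with h | h
    · rw [h, Subgroup.coe_one, isConj_one_left] at hcj
      exact D.u_ne hu huo hcj
    · have h1 := (hcent _ d.2 hcj).1
      have hle : (S : Subgroup G) ≤ Subgroup.centralizer ({(d : G)} : Set G) := by
        intro x hx
        refine Subgroup.mem_centralizer_singleton_iff.2 ?_
        have hc : (⟨x, hx⟩ : (S : Subgroup G)) * d * ⟨x, hx⟩⁻¹ ∈ C :=
          (show C.Normal from inferInstance).conj_mem d hd _
        rcases honly _ hc (by simp [conj_mul, hd2]) with e | e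
        · exact absurd (h ▸ conj_eq_one_iff.1 e) hz1
        · exact congrArg Subtype.val (mul_inv_eq_iff_eq_mul.1 (e.trans h.symm))
      rw [inf_eq_left.2 hle] at h1
      omega
  -- a coset free of conjugates of `u`
  let π : (S : Subgroup G) →* (S : Subgroup G) ⧸ C := QuotientGroup.mk' C
  have hπ : ∀ x, π x = 1 ↔ x ∈ C := fun x => QuotientGroup.eq_one_iff x
  have hQ : Nat.card ((S : Subgroup G) ⧸ C) = 4 := by rw [← Subgroup.index_eq_card, hC4]
  have hQc : ∀ a b : (S : Subgroup G) ⧸ C, a * b = b * a :=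
    haveI : Fact (Nat.Prime 2) := ⟨Nat.prime_two⟩
    (IsPGroup.isMulCommutative_of_card_eq_prime_sq (p := 2) (by rw [hQ]; norm_num)).is_comm.comm
  have hu2 : π u' * π u' = 1 := by
    rw [← map_mul, show u' * u' = 1 from Subtype.ext (D.sq_u hu huo), map_one]
  obtain ⟨w, hw1, hwu, hwfree⟩ : ∃ w : (S : Subgroup G), π w ≠ 1 ∧ π w ≠ π u' ∧
      ∀ x : (S : Subgroup G), π x = π w → ¬ IsConj u (x : G) := by
    obtain ⟨q, hq1, hqu⟩ : ∃ q : (S : Subgroup G) ⧸ C, q ≠ 1 ∧ q ≠ π u' := by
      by_contra h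
      push Not at h
      have hsub : (Set.univ : Set ((S : Subgroup G) ⧸ C)) ⊆ {1, π u'} := fun x _ => by
        by_cases hx : x = 1
        · exact Or.inl hx
        · exact Or.inr (h x hx)
      have := (Set.ncard_le_ncard hsub).trans (Set.ncard_insert_le _ _)
      rw [Set.ncard_univ, hQ, Set.ncard_singleton] at this
      omega
    obtain ⟨w, rfl⟩ := QuotientGroup.mk'_surjective C q
    change π w ≠ 1 at hq1
    change π w ≠ π u' at hqu
    by_cases h1 : ∃ x : (S : Subgroup G), π x = π w ∧ IsConj u (x : G)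
    swap
    · push Not at h1
      exact ⟨w, hq1, hqu, h1⟩
    obtain ⟨x₁, hx₁, hc₁⟩ := h1
    refine ⟨u' * w, ?_, ?_, fun x₂ hx₂ hc₂ => ?_⟩
    · rw [map_mul]
      intro h
      exact hqu ((mul_left_cancel (hu2.trans h.symm)).symm)
    · rw [map_mul]
      intro h
      exact hq1 (mul_eq_left.1 h)
    · -- `C` has exponent two
      have hd0 : (u' * x₁)⁻¹ * x₂ ∈ C := (hπ _).1 (by
        rw [map_mul, map_inv, map_mul, hx₁, hx₂, map_mul, inv_mul_cancel])
      have he2 : ∀ d ∈ C, d * d = 1 := by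
        intro d hd
        have h1 := hinv x₂ hc₂ d hd
        obtain ⟨c, hc⟩ : ∃ c : C, (u' * x₁)⁻¹ * x₂ = c := ⟨⟨_, hd0⟩, rfl⟩
        rw [inv_mul_eq_iff_eq_mul] at hc
        rw [hc] at h1
        have h2 : (c : (S : Subgroup G)) * d * (c : (S : Subgroup G))⁻¹ = d := by
          rw [hCab _ c.2 _ hd, mul_inv_cancel_right]
        have h3 : u' * x₁ * d * (u' * x₁)⁻¹ = d := by
          have e1 := hinv x₁ hc₁ d hd
          have e2 := hinv u' (IsConj.refl u) d⁻¹ (C.inv_mem hd)
          calc u' * x₁ * d * (u' * x₁)⁻¹ = u' * (x₁ * d * x₁⁻¹) * u'⁻¹ := by group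
            _ = d := by rw [e1, e2, inv_inv]
        have h4 : d = d⁻¹ := by
          calc d = u' * x₁ * (c * d * (c : (S : Subgroup G))⁻¹) * (u' * x₁)⁻¹ := by rw [h2, h3]
            _ = u' * x₁ * c * d * (u' * x₁ * c)⁻¹ := by group
            _ = d⁻¹ := h1
        nth_rw 2 [h4]
        exact mul_inv_cancel d
      have hall : ∀ y : (S : Subgroup G), y * y = 1 := by
        intro y
        have hsq : ∀ i y : (S : Subgroup G), IsConj u (i : G) → π y = π i → y * y = 1 := by
          intro i y hi hy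
          have hd : i⁻¹ * y ∈ C := (hπ _).1 (by rw [map_mul, map_inv, hy, inv_mul_cancel])
          have h1 := hinv i hi _ hd
          have hii : i * i = 1 := by
            refine Subtype.ext ?_
            obtain ⟨g, hg⟩ := isConj_iff.1 hi
            show (i : G) * i = 1
            rw [← hg, show g * u * g⁻¹ * (g * u * g⁻¹) = g * (u * u) * g⁻¹ by group,
              D.sq_u hu huo]
            group
          calc y * y = (i * (i⁻¹ * y) * i⁻¹) * (i * i) * (i⁻¹ * y) := by group
            _ = 1 := by rw [hii, mul_one, h1, inv_mul_cancel]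
        -- the four cosets
        have hsub : ({1, π u', π w, π u' * π w} : Set ((S : Subgroup G) ⧸ C)) = Set.univ := by
          refine Set.eq_of_subset_of_ncard_le (Set.subset_univ _) ?_ Set.finite_univ
          rw [Set.ncard_univ, hQ]
          have a1 : (1 : (S : Subgroup G) ⧸ C) ≠ π u' := fun h => huC' ((hπ _).1 h.symm)
          have a3 : (1 : (S : Subgroup G) ⧸ C) ≠ π u' * π w := fun h =>
            hqu (mul_left_cancel (hu2.trans h)).symm
          have a5 : π u' ≠ π u' * π w := fun h => hq1 (left_eq_mul.1 h)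
          have a6 : π w ≠ π u' * π w := fun h => a1 (right_eq_mul.1 h).symm
          rw [Set.ncard_insert_of_notMem (by simp [a1, Ne.symm hq1, a3]),
            Set.ncard_insert_of_notMem (by simp [Ne.symm hqu, a5]), Set.ncard_pair a6]
        have hy := (hsub ▸ Set.mem_univ (π y) :
          π y ∈ ({1, π u', π w, π u' * π w} : Set ((S : Subgroup G) ⧸ C)))
        simp only [Set.mem_insert_iff, Set.mem_singleton_iff] at hy
        rcases hy with h | h | h | h
        · exact he2 y ((hπ y).1 h)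
        · exact hsq u' y (IsConj.refl u) h
        · exact hsq x₁ y hc₁ (h.trans hx₁.symm)
        · exact hsq x₂ y hc₂ ((h.trans (map_mul π u' w).symm).trans hx₂.symm)
      refine hnab ((Subgroup.commutator_eq_bot_iff_le_centralizer).2 fun a _ => ?_)
      refine Subgroup.mem_centralizer_iff.2 fun b _ => ?_
      have h1 := hall (a * b)
      calc b * a = (a * a) * (b * a) * (b * b) := by rw [hall a, hall b, one_mul, mul_one]
        _ = a * ((a * b) * (a * b)) * b := by group
        _ = a * b := by rw [h1, mul_one]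
  have hw2 : π w * π w = 1 := by
    by_contra h
    have hcases : π w * π w = π u' := by
      by_contra hne
      have hsub : ({1, π u', π w, π w * π u', π w * π w} : Set ((S : Subgroup G) ⧸ C)).ncard ≤ 4 := by
        rw [← hQ, ← Set.ncard_univ]; exact Set.ncard_le_ncard (Set.subset_univ _)
      have b1 : (1 : (S : Subgroup G) ⧸ C) ≠ π u' := fun h => huC' ((hπ _).1 h.symm)
      have b3 : (1 : (S : Subgroup G) ⧸ C) ≠ π w * π u' := fun h =>
        hwu (mul_right_cancel (hu2.trans h)).symm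
      have b5 : π u' ≠ π w * π u' := fun h => hw1 (right_eq_mul.1 h)
      have b6 : π w ≠ π w * π u' := fun h => b1 (left_eq_mul.1 h).symm
      have b9 : π w ≠ π w * π w := fun h => hw1 (left_eq_mul.1 h)
      have b10 : π w * π u' ≠ π w * π w := fun h => hwu (mul_left_cancel h).symm
      rw [Set.ncard_insert_of_notMem (by simp [b1, Ne.symm hw1, b3, Ne.symm h]),
        Set.ncard_insert_of_notMem (by simp [Ne.symm hwu, b5, Ne.symm hne]),
        Set.ncard_insert_of_notMem (by simp [b6, b9]), Set.ncard_pair b10] at hsub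
      omega
    rw [← map_mul, ← inv_mul_eq_one, ← map_inv, ← map_mul, hπ] at hcases
    obtain ⟨d, hd, hdw⟩ : ∃ d ∈ C, w * w = u' * d := by
      refine ⟨u'⁻¹ * (w * w), ?_, by group⟩
      have := (hπ (u'⁻¹ * (w * w))).1 (by
        rw [map_mul, map_inv, inv_mul_eq_one]
        exact (inv_mul_eq_one.1 (by rw [← map_inv, ← map_mul]; exact (hπ _).2 hcases)).symm)
      exact this
    have h1 := (hcent _ (u' * d).2 (hGu d hd)).2 w w.2 (by
      rw [← hdw]; show (w : G) * (w * w) = w * w * w; group)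
    exact h (by rw [← map_mul, show w * w = 1 from Subtype.ext h1, map_one])
  -- transfer
  set Q₂ := Subgroup.zpowers (π w) with hQ₂
  have hQ₂c : Nat.card Q₂ = 2 := by
    rw [hQ₂, Nat.card_zpowers]; exact orderOf_eq_prime (by rw [sq]; exact hw2) hw1
  set W := Q₂.comap π with hW
  have hWS : (W.map (S : Subgroup G).subtype).index = 2 * (S : Subgroup G).index := by
    rw [Subgroup.index_map_subtype, hW,
      Subgroup.index_comap_of_surjective _ (QuotientGroup.mk'_surjective C)]
    have h1 := Q₂.card_mul_index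
    rw [hQ₂c, hQ] at h1
    congr 1
    omega
  obtain ⟨χ, hχ⟩ := SignThompson.exists_sign_hom (W.map (S : Subgroup G).subtype) u 0
    (S : Subgroup G).index (by rw [huo]; rfl) (fun g hg => by
      obtain ⟨x, hx, hxe⟩ := hg
      have hc : IsConj u (x : G) := isConj_iff.2 ⟨g⁻¹, by
        rw [inv_inv]; simpa using hxe.symm⟩
      obtain ⟨i, hi⟩ := Subgroup.mem_zpowers_iff.1 (Subgroup.mem_comap.1 hx)
      rcases Int.even_or_odd i with ⟨j, rfl⟩ | ⟨j, rfl⟩
      · refine hnone x ((hπ x).1 ?_) hc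
        rw [← hi, zpow_add, ← (Commute.refl (π w)).mul_zpow, hw2, one_zpow]
      · refine hwfree x ?_ hc
        rw [← hi, two_mul, zpow_add, zpow_add, ← (Commute.refl (π w)).mul_zpow, hw2, one_zpow,
          one_mul, zpow_one])
    (Nat.odd_iff.2 (Nat.two_dvd_ne_zero.1 (S.not_dvd_index)))
    (by rw [hWS]; norm_num)
  haveI := D.hsimple
  rcases (inferInstance : χ.ker.Normal).eq_bot_or_eq_top with h | h
  · refine D.hnc ⟨⟨fun a b => ?_⟩⟩
    refine (MonoidHom.ker_eq_bot_iff χ).1 h ?_
    rw [map_mul, map_mul, mul_comm]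
  · have := (MonoidHom.ker_eq_top_iff.1 h) ▸ hχ
    simp at this

end Data

end Cfsg.Agent.UniqueDegree
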