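/-
Complement of even order: the group is some `PSL(2, q)`, `q` odd.
-/
import Cfsg.Agent.Lib.UniqueDegree.Even

set_option linter.unusedSectionVars false
set_option linter.style.haveILetI false

namespace Cfsg.Agent.UniqueDegree

open Cfsg
open scoped commutatorElement

universe u

variable {G : Type u} [Group G] [Fintype G] {p : ℕ} {P E : Subgroup G}

local notation "M" => Subgroup.normalizer (E : Set G)

namespace Data

variable (D : Data p P E)
include D

/-- A normal form for the generator. -/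
theorem exists_gen' : ∃ c ∈ E, orderOf c = Nat.card E ∧ (∀ x ∈ E, ∃ i : ℤ, x = c ^ i) := by
  haveI := D.hcyc
  obtain ⟨c, hc⟩ := IsCyclic.exists_generator (α := E)
  refine ⟨c, c.2, by rw [Subgroup.orderOf_coe, orderOf_eq_card_of_forall_mem_zpowers hc],
    fun x hx => ?_⟩
  obtain ⟨i, hi⟩ := Subgroup.mem_zpowers_iff.1 (hc ⟨x, hx⟩)
  exact ⟨i, by simpa using (congrArg Subtype.val hi).symm⟩

theorem commutator_eq_top : commutator G = ⊤ := by
  haveI := D.hsimple
  rcases (inferInstance : (commutator G).Normal).eq_bot_or_eq_top with h | h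
  · refine absurd ⟨⟨fun a b => ?_⟩⟩ D.hnc
    have : ⁅a, b⁆ ∈ commutator G := Subgroup.commutator_mem_commutator trivial trivial
    rw [h, Subgroup.mem_bot, commutatorElement_eq_one_iff_mul_comm] at this
    exact this
  · exact h

theorem even_psl (he : 2 ∣ Nat.card E) :
    ∃ (F : Type) (_ : Field F) (_ : Fintype F),
      Odd (Fintype.card F) ∧ Nonempty (G ≃* Matrix.ProjectiveSpecialLinearGroup (Fin 2) F) := by
  classical
  haveI := D.hsimple
  haveI : Fact (Nat.Prime 2) := ⟨Nat.prime_two⟩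
  obtain ⟨c, hcE, hco, hgen⟩ := D.exists_gen'
  obtain ⟨A, m, hm2, hem⟩ := Nat.exists_eq_pow_mul_and_not_dvd (Nat.card_pos (α := E)).ne' 2 (by norm_num)
  have hmo : Odd m := Nat.odd_iff.2 (Nat.two_dvd_ne_zero.1 hm2)
  have hA : A ≠ 0 := fun h => hm2 (by rw [hem, h, pow_zero, one_mul] at he; exact he)
  set u := c ^ (Nat.card E / 2) with hudef
  have huo : orderOf u = 2 := by
    rw [hudef, ← hco]
    exact orderOf_pow_orderOf_div (orderOf_pos c).ne' (hco ▸ he)
  have hu : u ∈ E := E.pow_mem hcE _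
  have huM : ∀ g, g * u = u * g ↔ g ∈ M := fun g => D.comm_u_iff hu huo
  -- conjugation on `E`
  have hconj : ∀ g ∈ M, ∃ r : ℤ, ∀ i : ℤ, g * c ^ i * g⁻¹ = c ^ (r * i) := by
    intro g hg
    obtain ⟨r, hr⟩ := hgen _ (D.conjM hg hcE)
    exact ⟨r, fun i => by rw [← conj_zpow, hr, zpow_mul]⟩
  -- the Sylow subgroup
  obtain ⟨T₁⟩ : Nonempty (Sylow 2 M) := inferInstance
  obtain ⟨S, hS⟩ := (T₁.2.map (M).subtype).exists_le_sylow
  have hTS : ∀ x : M, x ∈ (T₁ : Subgroup M) → (x : G) ∈ (S : Subgroup G) := fun x hx =>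
    hS ⟨x, hx, rfl⟩
  have hSMeq : ((S : Subgroup G) ⊓ M).subgroupOf M = (T₁ : Subgroup M) :=
    T₁.3 ((S.2.to_le (inf_le_left : (S : Subgroup G) ⊓ M ≤ S)).of_equiv
      (Subgroup.subgroupOfEquivOfLe (inf_le_right : (S : Subgroup G) ⊓ M ≤ M)).symm)
      fun x hx => ⟨hTS x hx, x.2⟩
  have hT : ¬ 2 * Nat.card ↥((S : Subgroup G) ⊓ M) ∣ 2 * Nat.card E := by
    rw [← Nat.card_congr (Subgroup.subgroupOfEquivOfLe
      (inf_le_right : (S : Subgroup G) ⊓ M ≤ M)).toEquiv, hSMeq, ← D.hM,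
      ← (T₁ : Subgroup M).card_mul_index, mul_comm 2]
    exact fun h => T₁.not_dvd_index (Nat.dvd_of_mul_dvd_mul_left Nat.card_pos h)
  have htwo : ∀ x ∈ E, (∃ k, orderOf x = 2 ^ k) → x ∈ (S : Subgroup G) := by
    rintro x hx ⟨k, hk⟩
    set xm : M := ⟨x, Subgroup.le_normalizer hx⟩
    obtain ⟨T₂, hT₂⟩ := (show IsPGroup 2 (Subgroup.zpowers xm) from IsPGroup.of_card (n := k)
      (by rw [Nat.card_zpowers, ← hk, ← Subgroup.orderOf_coe])).exists_le_sylow
    obtain ⟨g, hg⟩ := MulAction.exists_smul_eq M T₂ T₁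
    obtain ⟨r, hr⟩ := hconj _ (inv_mem g.2)
    obtain ⟨i, hi⟩ := hgen x hx
    have hy : (g⁻¹ * xm * g) ∈ Subgroup.zpowers xm := ⟨r, Subtype.ext (by
      show x ^ r = (g : G)⁻¹ * x * (g : G)
      rw [hi, ← zpow_mul, mul_comm i r, ← hr i, inv_inv])⟩
    refine hTS xm ?_
    rw [← hg, Sylow.coe_subgroup_smul]
    exact ⟨g⁻¹ * xm * g, hT₂ hy, by simp [MulAut.conj_apply, mul_assoc]⟩
  have huS : u ∈ (S : Subgroup G) := htwo u hu ⟨1, by rw [huo, pow_one]⟩
  have hSM : (S : Subgroup G) ≤ M := D.sylow_le hu huo S huS hT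
  have hSE : ¬ (S : Subgroup G) ≤ E := by
    intro h
    refine hT ?_
    rw [inf_eq_left.2 hSM]
    exact Nat.mul_dvd_mul_left 2 (Subgroup.card_dvd_of_le h)
  -- the focal subgroup
  have hfoc : ∀ K : Subgroup G, (∀ x ∈ (S : Subgroup G), ∀ g : G,
      ⁅x, g⁆ ∈ (S : Subgroup G) → ⁅x, g⁆ ∈ K) → (S : Subgroup G) ≤ K := by
    intro K hK
    have h := Subgroup.commutator_inf_eq_focalSubgroup S
    rw [D.commutator_eq_top, top_inf_eq] at h
    rw [h, Subgroup.focalSubgroup_def, Subgroup.closure_le]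
    rintro _ ⟨hg, x, hx, g, rfl⟩
    exact hK x hx g hg
  have hfus : ∀ x ∈ (S : Subgroup G), x * x ≠ 1 → ∀ g : G, ⁅x, g⁆ ∈ (S : Subgroup G) → g ∈ M := by
    intro x hx hxx g hg
    have hy : g * x⁻¹ * g⁻¹ ∈ (S : Subgroup G) := by
      have := (S : Subgroup G).mul_mem ((S : Subgroup G).inv_mem hx) hg
      rw [commutatorElement_def] at this
      simpa [mul_assoc] using this
    refine D.mem_M_of_fusion ((D.mul_mem_iff (hSM (inv_mem hx)) (hSM (inv_mem hx))).2 Iff.rfl)
      (fun h => hxx (by rw [← mul_inv_rev, inv_eq_one] at h; exact h)) ?_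
    rw [show g * (x⁻¹ * x⁻¹) * g⁻¹ = (g * x⁻¹ * g⁻¹) * (g * x⁻¹ * g⁻¹) by group]
    exact (D.mul_mem_iff (hSM hy) (hSM hy)).2 Iff.rfl
  -- an involution outside `E`
  obtain ⟨s, hsS, hsE, hss⟩ : ∃ s ∈ (S : Subgroup G), s ∉ E ∧ s * s = 1 := by
    by_contra hno
    push Not at hno
    refine hSE ((hfoc E fun x hx g hg => ?_))
    by_cases hxx : x * x = 1
    · have hxE : x ∈ E := Classical.not_not.1 fun h => hno x hx h hxx
      have hy : g * x⁻¹ * g⁻¹ ∈ (S : Subgroup G) := by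
        have := (S : Subgroup G).mul_mem ((S : Subgroup G).inv_mem hx) hg
        rw [commutatorElement_def] at this
        simpa [mul_assoc] using this
      have hyE : g * x⁻¹ * g⁻¹ ∈ E := Classical.not_not.1 fun h => hno _ hy h (by
        rw [conj_mul, ← mul_inv_rev, hxx]; group)
      rw [commutatorElement_def, show x * g * x⁻¹ * g⁻¹ = x * (g * x⁻¹ * g⁻¹) by group]
      exact E.mul_mem hxE hyE
    · have hgM := hfus x hx hxx g hg
      have hxM := hSM hx
      rw [commutatorElement_def]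
      have h1 := (D.mul_mem_iff ((M).mul_mem hxM hgM)
        ((M).mul_mem ((M).inv_mem hxM) ((M).inv_mem hgM))).2 ?_
      · simpa [mul_assoc] using h1
      · rw [D.mul_mem_iff hxM hgM, D.mul_mem_iff ((M).inv_mem hxM) ((M).inv_mem hgM),
          E.inv_mem_iff, E.inv_mem_iff]
  have hsM := hSM hsS
  have hsinv : s⁻¹ = s := inv_eq_of_mul_eq_one_right hss
  have hodd2 : s * c ^ (2 ^ A : ℕ) * s⁻¹ = (c ^ (2 ^ A : ℕ))⁻¹ := by
    refine D.inverted_odd hsM hsE (E.pow_mem hcE _) ?_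
    rw [orderOf_pow' c (by positivity), hco, hem, Nat.gcd_eq_right (dvd_mul_right _ _),
      Nat.mul_div_cancel_left _ (by positivity)]
    exact hmo
  have hgenInv : ∀ i : ℤ, Odd i → s * c ^ i * s⁻¹ = (c ^ i)⁻¹ →
      ∀ x ∈ E, s * x * s⁻¹ = x⁻¹ := by
    intro i hi hinv x hx
    have hcop : IsCoprime i ((2 : ℤ) ^ A) := by
      obtain ⟨j, rfl⟩ := hi
      exact IsCoprime.pow_right ⟨1, -j, by ring⟩
    obtain ⟨α, β, hab⟩ := hcop
    have hc1 : c = (c ^ i) ^ α * (c ^ (2 ^ A : ℕ)) ^ β := by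
      rw [← zpow_natCast c (2 ^ A : ℕ), ← zpow_mul, ← zpow_mul, ← zpow_add,
        show i * α + ((2 ^ A : ℕ) : ℤ) * β = 1 by push_cast; linear_combination hab, zpow_one]
    have hcinv : s * c * s⁻¹ = c⁻¹ := by
      conv_lhs => rw [hc1]
      rw [← conj_mul, ← conj_zpow, hinv, ← conj_zpow, hodd2]
      conv_rhs => rw [hc1]
      rw [mul_inv_rev, inv_zpow, inv_zpow]
      exact D.commE (E.inv_mem (E.zpow_mem (E.zpow_mem hcE _) _))
        (E.inv_mem (E.zpow_mem (E.pow_mem hcE _) _))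
    obtain ⟨j, rfl⟩ := hgen x hx
    rw [← conj_zpow, hcinv, inv_zpow]
  have hx0o : orderOf (c ^ m) = 2 ^ A := by
    rw [orderOf_pow' c (fun h => hm2 (by rw [h]; exact dvd_zero 2)), hco, hem,
      Nat.gcd_eq_right (dvd_mul_left _ _), Nat.mul_div_cancel _ (Nat.pos_of_ne_zero fun h => hm2 (by rw [h]; exact dvd_zero 2))]
  have hx0S : c ^ m ∈ (S : Subgroup G) := htwo _ (E.pow_mem hcE _) ⟨A, hx0o⟩
  have hmI : Odd (m : ℤ) := (Int.odd_coe_nat m).2 hmo
  have hinv : ∀ x ∈ E, s * x * s⁻¹ = x⁻¹ := by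
    by_contra hnot
    have hnoinv : ∀ i : ℤ, Odd i → s * c ^ i * s⁻¹ ≠ (c ^ i)⁻¹ := fun i hi h =>
      hnot (hgenInv i hi h)
    have hx02 : c ^ m * c ^ m ≠ 1 := by
      intro h
      refine hnoinv m hmI ?_
      rw [zpow_natCast, inv_eq_of_mul_eq_one_right h]
      rcases D.eq_of_sq hu huo (D.conjM hsM (E.pow_mem hcE m)) (by rw [conj_mul, h]; group)
        with h1 | h1
      · rw [h1, conj_eq_one_iff.1 h1]
      · rcases D.eq_of_sq hu huo (E.pow_mem hcE m) h with h2 | h2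
        · rw [h2] at h1 ⊢; group
        · rw [h1, h2]
    set Sq := Subgroup.zpowers (c * c) with hSq
    have hSqE : Sq ≤ E := Subgroup.zpowers_le.2 (E.mul_mem hcE hcE)
    have hSqmem : ∀ k : ℤ, c ^ (2 * k) ∈ Sq := fun k => ⟨k, by
      show (c * c) ^ k = _
      rw [zpow_mul, zpow_ofNat, sq]⟩
    have hSqc : ∀ g ∈ M, ∀ x ∈ Sq, g * x * g⁻¹ ∈ Sq := by
      intro g hg x hx
      obtain ⟨k, rfl⟩ := Subgroup.mem_zpowers_iff.1 hx
      obtain ⟨r, hr⟩ := hconj g hg
      rw [← sq, ← zpow_ofNat, ← zpow_mul, hr, mul_left_comm]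
      exact hSqmem _
    have hcm : ∀ i : ℤ, Odd i → c ^ i ∉ Sq := by
      intro i hi hmem
      obtain ⟨k, hk⟩ := Subgroup.mem_zpowers_iff.1 hmem
      rw [← sq, ← zpow_ofNat, ← zpow_mul, zpow_eq_zpow_iff_modEq, hco] at hk
      have h2 : (2 : ℤ) ∣ i - 2 * k :=
        (Int.natCast_dvd_natCast.2 he).trans (Int.modEq_iff_dvd.1 hk)
      obtain ⟨j, rfl⟩ := hi
      omega
    have huSq : u ∈ Sq := by
      set y := c ^ m * c ^ m with hy
      have hyo : 2 ∣ orderOf y := by
        have hyp : y ^ (2 ^ A) = 1 := by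
          rw [hy, (Commute.refl (c ^ m)).mul_pow, ← hx0o, pow_orderOf_eq_one, one_mul]
        obtain ⟨j, -, hj⟩ := (Nat.dvd_prime_pow Nat.prime_two).1 (orderOf_dvd_of_pow_eq_one hyp)
        rw [hj]
        exact dvd_pow_self 2 fun h => hx02 (orderOf_eq_one_iff.1 (by rw [hj, h, pow_zero]))
      have hyE : y ∈ E := E.mul_mem (E.pow_mem hcE _) (E.pow_mem hcE _)
      obtain ⟨i, hi⟩ := Subgroup.mem_zpowers_iff.1 (D.mem_zpowers_of_prime_order Nat.prime_two
        (E.pow_mem hyE _) hu (orderOf_pow_orderOf_div (orderOf_pos y).ne' hyo) huo)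
      rw [← hi]
      refine zpow_mem (pow_mem ?_ _) i
      have := hSqmem m
      rwa [two_mul, zpow_add, zpow_natCast] at this
    let Φ : Subgroup G :=
      { carrier := {x | x ∈ Sq ∨ s * x ∈ Sq}
        one_mem' := Or.inl Sq.one_mem
        mul_mem' := by
          rintro a b (ha | ha) (hb | hb)
          · exact Or.inl (Sq.mul_mem ha hb)
          · refine Or.inr ?_
            rw [show s * (a * b) = (s * a * s⁻¹) * (s * b) by group]
            exact Sq.mul_mem (hSqc s hsM a ha) hb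
          · refine Or.inr ?_
            rw [← mul_assoc]
            exact Sq.mul_mem ha hb
          · refine Or.inl ?_
            rw [show a * b = (s⁻¹ * (s * a) * s⁻¹⁻¹) * (s⁻¹ * s⁻¹) * (s * b) by group,
              hsinv, hss, mul_one]
            refine Sq.mul_mem ?_ hb
            exact hSqc s hsM _ ha
        inv_mem' := by
          rintro a (ha | ha)
          · exact Or.inl (Sq.inv_mem ha)
          · refine Or.inr ?_
            rw [show s * a⁻¹ = s * (s * a)⁻¹ * s⁻¹ * (s * s) by group, hss, mul_one]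
            exact hSqc s hsM _ (Sq.inv_mem ha) }
    have hmemΦ : ∀ t ∈ (S : Subgroup G), t * t = 1 → t ∈ Φ := by
      intro t ht htt
      by_cases htE : t ∈ E
      · rcases D.eq_of_sq hu huo htE htt with h | h
        · exact h ▸ Φ.one_mem
        · exact Or.inl (h ▸ huSq)
      · obtain ⟨i, hi⟩ := hgen (s * t) ((D.mul_mem_iff hsM (hSM ht)).2 (iff_of_false hsE htE))
        rcases Int.even_or_odd i with ⟨k, rfl⟩ | hio
        · exact Or.inr (by rw [hi, ← two_mul]; exact hSqmem k)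
        · refine absurd ?_ (hnoinv i hio)
          rw [← hi, hsinv, mul_inv_rev, hsinv, ← mul_assoc s s t, hss, one_mul,
            inv_eq_of_mul_eq_one_right htt]
    have hquot : ∀ x ∈ M, ∀ g ∈ M, ⁅x, g⁆ ∈ Sq := by
      intro x hx g hg
      haveI : (Sq.subgroupOf M).Normal := ⟨fun y hy g => hSqc g g.2 y hy⟩
      have hcardSq : Nat.card Sq * 2 = Nat.card E := by
        rw [hSq, Nat.card_zpowers, ← sq, orderOf_pow' c two_ne_zero, hco,
          Nat.gcd_eq_right he, Nat.div_mul_cancel he]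
      have hidx : Nat.card (M ⧸ Sq.subgroupOf M) = 2 ^ 2 := by
        have h1 := (Sq.subgroupOf M).card_mul_index
        rw [Nat.card_congr (Subgroup.subgroupOfEquivOfLe (hSqE.trans Subgroup.le_normalizer)).toEquiv,
          D.hM, ← hcardSq, show 2 * (Nat.card Sq * 2) = Nat.card Sq * 2 ^ 2 by ring] at h1
        rw [← Subgroup.index_eq_card]
        exact Nat.eq_of_mul_eq_mul_left Nat.card_pos h1
      haveI := IsPGroup.isMulCommutative_of_card_eq_prime_sq hidx
      have h2 : (QuotientGroup.mk' (Sq.subgroupOf M)) ⁅(⟨x, hx⟩ : M), ⟨g, hg⟩⁆ = 1 := by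
        rw [map_commutatorElement, commutatorElement_eq_one_iff_mul_comm]
        exact mul_comm' _ _
      exact ((QuotientGroup.eq_one_iff _).1 h2 :)
    have hle := hfoc Φ fun x hx g hg => by
      by_cases hxx : x * x = 1
      · have hy : g * x⁻¹ * g⁻¹ ∈ (S : Subgroup G) := by
          have := (S : Subgroup G).mul_mem ((S : Subgroup G).inv_mem hx) hg
          rw [commutatorElement_def] at this
          simpa [mul_assoc] using this
        rw [commutatorElement_def, show x * g * x⁻¹ * g⁻¹ = x * (g * x⁻¹ * g⁻¹) by group]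
        exact Φ.mul_mem (hmemΦ x hx hxx) (hmemΦ _ hy (by rw [conj_mul, ← mul_inv_rev, hxx]; group))
      · exact Or.inl (hquot x (hSM hx) g (hfus x hx hxx g hg))
    rcases hle hx0S with h | h
    · exact hcm m hmI (by rwa [zpow_natCast])
    · refine hsE ?_
      exact (E.mul_mem_cancel_right (E.pow_mem hcE m)).1 (hSqE h)
  -- the hypotheses of the characterisation
  have hCu : Subgroup.centralizer ({u} : Set G) = M := by
    ext g
    rw [Subgroup.mem_centralizer_singleton_iff]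
    exact huM g
  have hso : orderOf s = 2 := orderOf_eq_prime (by rw [sq, hss]) fun h => hsE (h ▸ E.one_mem)
  have hone : ∀ x y : G, orderOf x = 2 → orderOf y = 2 → IsConj x y := by
    have hz : ∀ x ∈ E, (∃ k, orderOf x = 2 ^ k) → x ∈ Subgroup.zpowers (c ^ m) := by
      rintro x hx ⟨k, hk⟩
      obtain ⟨i, rfl⟩ := hgen x hx
      have h1 : c ^ (i * (2 ^ k : ℕ)) = 1 := by
        rw [zpow_mul, zpow_natCast, ← hk, pow_orderOf_eq_one]
      rw [← orderOf_dvd_iff_zpow_eq_one, hco, hem] at h1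
      have h2 : (m : ℤ) ∣ i * (2 ^ k : ℕ) := (Int.natCast_dvd_natCast.2 (dvd_mul_left _ _)).trans h1
      have h3 : IsCoprime (m : ℤ) ((2 ^ k : ℕ) : ℤ) :=
        Nat.isCoprime_iff_coprime.2 (Nat.Coprime.pow_right k (Nat.coprime_two_right.2 hmo))
      obtain ⟨j, rfl⟩ := h3.dvd_of_dvd_mul_right h2
      exact ⟨j, by show (c ^ m) ^ j = _; rw [← zpow_natCast c m, ← zpow_mul]⟩
    have hS2 : ∀ x ∈ (S : Subgroup G), ∃ k, orderOf x = 2 ^ k := fun x hx => by
      obtain ⟨k, hk⟩ := IsPGroup.iff_orderOf.1 S.2 ⟨x, hx⟩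
      exact ⟨k, by rwa [Subgroup.orderOf_mk] at hk⟩
    have hcase : ∀ a ∈ (S : Subgroup G),
        (∃ i : ℤ, a = (c ^ m) ^ i) ∨ ∃ i : ℤ, a = (c ^ m) ^ i * s := by
      intro a ha
      by_cases haE : a ∈ E
      · obtain ⟨i, hi⟩ := hz a haE (hS2 a ha)
        exact Or.inl ⟨i, hi.symm⟩
      · have h1 : a * s ∈ E := (D.mul_mem_iff (hSM ha) hsM).2 (iff_of_false haE hsE)
        obtain ⟨i, hi⟩ := hz _ h1 (hS2 _ ((S : Subgroup G).mul_mem ha hsS))
        refine Or.inr ⟨i, ?_⟩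
        rw [show (c ^ m) ^ i = a * s from hi, mul_assoc, hss, mul_one]
    have hcardS : Nat.card (S : Subgroup G) = 2 * 2 ^ A := by
      have h1 : Nat.card (S : Subgroup G) * (T₁ : Subgroup M).index = 2 * Nat.card E := by
        rw [← D.hM, ← (T₁ : Subgroup M).card_mul_index, ← hSMeq,
          Nat.card_congr (Subgroup.subgroupOfEquivOfLe
            (inf_le_right : (S : Subgroup G) ⊓ M ≤ M)).toEquiv, inf_eq_left.2 hSM]
      obtain ⟨j, hj⟩ := S.2.exists_card_eq
      rw [hj, hem, ← mul_assoc, ← pow_succ'] at h1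
      rw [hj, ← pow_succ']
      have hc2 : ∀ a b : ℕ, ¬ 2 ∣ b → Nat.Coprime (2 ^ a) b := fun a b hb =>
        Nat.Coprime.pow_left a (Nat.prime_two.coprime_iff_not_dvd.2 hb)
      exact Nat.dvd_antisymm ((hc2 _ _ hm2).dvd_of_dvd_mul_right ⟨_, h1.symm⟩)
        ((hc2 _ _ T₁.not_dvd_index).dvd_of_dvd_mul_right ⟨_, h1⟩)
    exact BSW.dih_simple_one_class D.hnc S
      { m := 2 ^ A, x := c ^ m, y := s, even := dvd_pow_self 2 hA,
        two_le := by simpa using Nat.pow_le_pow_right two_pos (Nat.one_le_iff_ne_zero.2 hA),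
        hm := hx0o, hx := hx0S, hy := hsS, yy := hss,
        inv := hinv _ (E.pow_mem hcE _),
        ynot := fun h => hsE (Subgroup.zpowers_le.2 (E.pow_mem hcE m) h),
        card := hcardS, cases := hcase }
  refine BSW.psl_of_goal D.hnc (BSW.main (t := u) (K := E) (s := s) ?_)
  refine ⟨huo, fun a ha b hb => D.commE ha hb, ?_, hu, hso, ?_, hsE, ?_, ?_, hinv, ?_, hone⟩
  · show E ≤ Subgroup.centralizer ({u} : Set G)
    rw [hCu]; exact Subgroup.le_normalizer
  · show s ∈ Subgroup.centralizer ({u} : Set G)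
    rw [hCu]; exact hsM
  · show E ⊔ Subgroup.zpowers s = Subgroup.centralizer ({u} : Set G)
    rw [hCu]
    refine le_antisymm (sup_le Subgroup.le_normalizer (Subgroup.zpowers_le.2 hsM)) fun g hg => ?_
    by_cases hgE : g ∈ E
    · exact Subgroup.mem_sup_left hgE
    · have h := (E ⊔ Subgroup.zpowers s).mul_mem (Subgroup.mem_sup_left
        ((D.mul_mem_iff hg hsM).2 (iff_of_false hgE hsE))) (Subgroup.mem_sup_right
        (Subgroup.mem_zpowers s))
      rwa [mul_assoc, hss, mul_one] at h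
  · refine le_antisymm (fun x hx => ?_) (Subgroup.zpowers_le.2 ⟨hu, ?_⟩)
    · have h1 : s * x = x * s := (Subgroup.mem_centralizer_singleton_iff.1 hx.2).symm
      have h2 := hinv x hx.1
      rw [h1, mul_inv_cancel_right] at h2
      rcases D.eq_of_sq hu huo hx.1 (by nth_rw 2 [h2]; exact mul_inv_cancel x) with h | h
      · exact h ▸ one_mem _
      · exact h ▸ Subgroup.mem_zpowers u
    · exact Subgroup.mem_centralizer_singleton_iff.2 ((huM s).2 hsM).symm
  · intro g hg
    refine D.hTI g fun h => hg ?_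
    show g ∈ Subgroup.centralizer ({u} : Set G)
    rw [hCu]; exact h

end Data

end Cfsg.Agent.UniqueDegree
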