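/-
A simple group with a subgroup of prime index `p` isomorphic to `PSL(2, q)`, `q` odd.
-/
import Cfsg.Agent.Lib.UniqueDegree.Basic
import Cfsg.Agent.S0806
import Cfsg.Agent.Lib.Char.Burnside

set_option linter.unusedSectionVars false
set_option linter.style.haveILetI false

namespace Cfsg.Agent.UniqueDegree

open Cfsg

universe u

variable {G : Type u} [Group G] [Fintype G] {p : ℕ} {P E : Subgroup G}

theorem Data.three_le (D : Data p P E) : 3 ≤ p := by
  have h1 := Nat.le_of_dvd (by have := D.hp.two_le; omega) D.he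
  have := D.he2
  omega

theorem Data.five_le (D : Data p P E) : 5 ≤ p := by
  have h3 := D.three_le
  by_contra h
  have hp := D.hp
  obtain rfl : p = 3 := by
    rcases (show p = 3 ∨ p = 4 by omega) with e | e
    · exact e
    · rw [e] at hp; norm_num at hp
  haveI := D.hsimple
  haveI : Group.IsSolvable G := by
    have hd : Nat.card G ∣ 6 := D.hfact.trans (by rfl)
    rcases (show Nat.card G = 1 ∨ Nat.card G = 2 ∨ Nat.card G = 3 ∨ Nat.card G = 6 by
      have := Nat.le_of_dvd (by norm_num) hd
      interval_cases Nat.card G <;> simp_all) with h | h | h | h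
    · exact Char.isSolvable_of_card_pq 2 3 Nat.prime_two Nat.prime_three _ G rfl ⟨0, 0, h⟩
    · exact Char.isSolvable_of_card_pq 2 3 Nat.prime_two Nat.prime_three _ G rfl ⟨1, 0, h⟩
    · exact Char.isSolvable_of_card_pq 2 3 Nat.prime_two Nat.prime_three _ G rfl ⟨0, 1, h⟩
    · exact Char.isSolvable_of_card_pq 2 3 Nat.prime_two Nat.prime_three _ G rfl ⟨1, 1, h⟩
  exact D.hnc ⟨⟨IsSimpleGroup.comm_iff_isSolvable.2 inferInstance⟩⟩

/-- The identification. -/
theorem Data.identify (D : Data p P E) {F : Type} [Field F] [Fintype F]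
    (hodd : Odd (Fintype.card F))
    (f : G ≃* Matrix.ProjectiveSpecialLinearGroup (Fin 2) F) :
    (p = 5 ∨ p = 7 ∨ p = 11) ∧ Fintype.card F = p := by
  set q := Fintype.card F with hq
  have hp := D.hp
  have h5 := D.five_le
  have hpG : p ∣ Nat.card G := D.hP ▸ P.card_subgroup_dvd_card
  have hqn : Nat.card F = q := Nat.card_eq_fintype_card
  have hcard : 2 * Nat.card G = q * (q ^ 2 - 1) := by
    have h := Dickson.gcd_mul_card_psl (K := F)
    rw [hqn, ← Nat.card_congr f.toEquiv] at h
    obtain ⟨j, hj⟩ := hodd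
    rwa [hj, show Nat.gcd 2 (2 * j + 1 - 1) = 2 by simp, ← hj] at h
  have hdvd : p ∣ q ∨ p ∣ q + 1 ∨ p ∣ q - 1 := by
    have h : p ∣ q * ((q + 1) * (q - 1)) := by
      rw [show (q + 1) * (q - 1) = q ^ 2 - 1 from by rw [← Nat.sq_sub_sq, one_pow],
        ← hcard]
      exact dvd_mul_of_dvd_right hpG 2
    rcases hp.dvd_mul.1 h with h | h
    · exact Or.inl h
    · exact Or.inr (hp.dvd_mul.1 h)
  have hq2 : 1 < q := Fintype.one_lt_card
  have hfact : Nat.card G ∣ p.factorial := D.hfact
  by_cases hs : q ∈ ({2, 3, 5, 7, 9, 11} : Finset ℕ)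
  · simp only [Finset.mem_insert, Finset.mem_singleton] at hs
    have hple : p ≤ 12 := by
      rcases hdvd with h | h | h <;> have := Nat.le_of_dvd (by omega) h <;> omega
    rcases hs with hs | hs | hs | hs | hs | hs <;> rw [hs] at hdvd hcard hodd ⊢ <;>
      interval_cases p <;> (try norm_num at hp) <;> (try norm_num at hdvd) <;>
      (try norm_num at hodd) <;> (try norm_num)
    all_goals
      rw [Nat.card_eq_fintype_card] at hfact
      norm_num at hcard
      have : Fintype.card G = 360 ∨ Fintype.card G = 660 := by omega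
      rcases this with e | e <;> rw [e] at hfact <;> norm_num [Nat.factorial] at hfact
  · exfalso
    obtain ⟨H, hH⟩ := D.hidx
    set H' := H.map f.toMonoidHom with hH'
    have hidx : H'.index = p := by
      rw [hH', show H.map f.toMonoidHom = H.map (f : G →* _) from rfl, Subgroup.index_map_equiv, hH]
    have := (S0806.result (q := q) rfl hs).1 H' fun h => hp.ne_one (by rw [← hidx, h, Subgroup.index_top])
    rw [hidx] at this
    obtain ⟨j, hj⟩ := hodd
    have hpq : p = q + 1 := by
      rcases hdvd with h | h | h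
      · have := Nat.le_of_dvd (by omega) h; omega
      · have := Nat.le_of_dvd (by omega) h; omega
      · simp only [Finset.mem_insert, Finset.mem_singleton] at hs
        have := Nat.le_of_dvd (by omega) h; omega
    exact absurd (hp.eq_two_or_odd'.resolve_left (by omega)) (by
      rw [hpq, hj]; simp [Nat.odd_add_one, parity_simps])

end Cfsg.Agent.UniqueDegree
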