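/-
Weights of lattices: fixed vectors and fixed functionals with a unit pairing.
-/
import Cfsg.Agent.Lib.DefOne.Key
import Mathlib.GroupTheory.DoubleCoset

set_option linter.unusedSectionVars false
set_option linter.style.haveILetI false

namespace Cfsg.Agent.UniqueDegree

open Module LinearMap DefOne

section rank

variable {R : Type*} [CommRing R] [IsDomain R] [IsPrincipalIdealRing R] [CharZero R]
  {L : Type*} [AddCommGroup L] [Module R L] [Module.Finite R L] [Module.Free R L]
  {k : Type*} [Field k] {p : ℕ} {π : R →+* k}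

/-- An automorphism of order `p` with positive trace has a fixed vector and a fixed functional
with a unit pairing. -/
theorem exists_pairing (hπ : Residue p π) (τ : Module.End R L) (hτ : τ ^ p = 1) (c : ℕ) (hc : 0 < c)
    (htr : ∀ i, i ∈ Finset.range p → i ≠ 0 → LinearMap.trace R L (τ ^ i) = (c : R)) :
    ∃ v : L, τ v = v ∧ ∃ w : L →ₗ[R] R, (∀ x, w (τ x) = w x) ∧ π (w v) ≠ 0 := by
  classical
  let bL := Module.Free.chooseBasis R L
  set ι := Module.Free.ChooseBasisIndex R L
  set N := redEnd π bL (dl τ) with hN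
  set T := redSub hπ bL (LinearMap.ker (dl τ)) with hTdef
  set U := LinearMap.range (redEnd π bL (nu p τ)) with hUdef
  have hUT : U ≤ T := range_redEnd_le hπ bL (dl_mul_nu τ hτ)
  by_cases hlt : T ≤ U
  · exfalso
    have hTU : T = U := le_antisymm hlt hUT
    set r := finrank R (LinearMap.ker (dl τ))
    have hr : finrank k U = r := by
      rw [← hTU]; exact finrank_redSub hπ bL fun x hx => pure_ker bL hπ.p0 _ hx
    rw [hUdef, red_nu hπ bL τ, ← hN] at hr
    have hp := hπ.hp
    have hNp : N ^ p = 0 := red_dl_pow hπ bL τ hτ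
    have h2 := mul_rank_pow_le N hNp
    rw [hr] at h2
    have h3 : r ≤ finrank k (LinearMap.ker N) := by
      rw [← hr]
      refine Submodule.finrank_mono ?_
      rintro _ ⟨x, rfl⟩
      rw [LinearMap.mem_ker, ← Module.End.mul_apply, ← pow_succ', Nat.sub_add_cancel hp.pos, hNp,
        LinearMap.zero_apply]
    have h4 := LinearMap.finrank_range_add_finrank_ker N
    rw [Module.finrank_pi] at h4
    have htrν : (p : R) * (r : R) = (Fintype.card ι : R) + ((p - 1 : ℕ) : R) * (c : R) := by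
      rw [← (trace_nu_eq τ hτ).1, nu, map_sum,
        ← Finset.add_sum_erase _ _ (Finset.mem_range.2 hp.pos), pow_zero, LinearMap.trace_one,
        Module.finrank_eq_card_basis bL,
        Finset.sum_congr rfl fun i hi => htr i (Finset.mem_of_mem_erase hi) (Finset.ne_of_mem_erase hi),
        Finset.sum_const, Finset.card_erase_of_mem (Finset.mem_range.2 hp.pos), Finset.card_range,
        nsmul_eq_mul]
    have h5 : p * r = Fintype.card ι + (p - 1) * c := by exact_mod_cast htrν
    obtain ⟨q, rfl⟩ : ∃ q, p = q + 1 := ⟨p - 1, by have := hp.pos; omega⟩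
    have hq : 0 < q * c := mul_pos (by have := hp.two_le; omega) hc
    rw [Nat.add_sub_cancel] at h2 h5
    rw [add_mul, one_mul] at h5
    omega
  · obtain ⟨t, htT, htU⟩ := SetLike.not_le_iff_exists.1 hlt
    obtain ⟨v, hv, rfl⟩ := htT
    obtain ⟨f, hfv, hfU⟩ := Submodule.exists_dual_map_eq_bot_of_notMem htU inferInstance
    choose a ha using fun i => hπ.surj (f (rv π bL (bL i)))
    let Φ : L →ₗ[R] R := bL.constr R a
    have hΦ : ∀ y, π (Φ y) = f (rv π bL y) := fun y => by
      conv_rhs => rw [← bL.sum_repr y, rv_sum, map_sum]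
      rw [show Φ y = _ from Basis.constr_apply_fintype _ _ _ _, map_sum]
      exact Finset.sum_congr rfl fun i _ => by
        rw [rv_smul, smul_eq_mul, map_mul, ha, map_smul, smul_eq_mul, Basis.equivFun_apply]
    have hker : ∀ y, π (Φ (nu p τ y)) = 0 := fun y => by
      rw [hΦ, ← redEnd_apply]
      have : f (redEnd π bL (nu p τ) (rv π bL y)) ∈ U.map f :=
        ⟨_, LinearMap.mem_range_self _ _, rfl⟩
      rw [hfU] at this
      exact (Submodule.mem_bot k).1 this
    choose d hd using fun y => (hπ.ker _).1 (hker y)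
    let w : L →ₗ[R] R :=
      { toFun := d
        map_add' := fun x y => mul_left_cancel₀ hπ.p0 (by
          rw [mul_add, ← hd, ← hd, ← hd, map_add, map_add])
        map_smul' := fun c x => mul_left_cancel₀ hπ.p0 (by
          rw [← hd, map_smul, map_smul, RingHom.id_apply, smul_eq_mul, smul_eq_mul, hd]; ring) }
    have hv' : τ v = v := by
      have := LinearMap.mem_ker.1 hv
      rwa [dl, LinearMap.sub_apply, Module.End.one_apply, sub_eq_zero] at this
    refine ⟨v, hv', w, fun x => mul_left_cancel₀ hπ.p0 ?_, ?_⟩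
    · show (p : R) * d (τ x) = (p : R) * d x
      have hc : nu p τ * τ = τ * nu p τ :=
        (Commute.sum_left _ _ _ fun i _ => (Commute.refl τ).pow_left i : Commute (nu p τ) τ)
      rw [← hd, ← hd, ← Module.End.mul_apply, hc, tau_mul_nu τ hτ]
    · have hpow : ∀ i : ℕ, (τ ^ i) v = v := fun i => by
        induction i with
        | zero => simp
        | succ i ih => rw [pow_succ, Module.End.mul_apply, hv', ih]
      have hwv : w v = Φ v := mul_left_cancel₀ hπ.p0 (by
        show (p : R) * d v = _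
        rw [← hd, nu, LinearMap.sum_apply, Finset.sum_congr rfl fun i _ => hpow i,
          Finset.sum_const, Finset.card_range, map_nsmul, nsmul_eq_mul])
      rw [hwv, hΦ]
      exact hfv

end rank

section sep

universe u

variable {G : Type u} [Group G] [Fintype G] {R : Type*} [CommRing R] [IsDomain R]
  {k : Type*} [Field k] (π : R →+* k)
  {L₁ L₂ : Type*} [AddCommGroup L₁] [Module R L₁] [AddCommGroup L₂] [Module R L₂]

/-- The weight `μ` is visible in `ρ`. -/
def Vis {L : Type*} [AddCommGroup L] [Module R L] (ρ : Representation R G L) (P E : Subgroup G)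
    (μ : G → R) : Prop :=
  ∃ (v : L) (w : L →ₗ[R] R), (∀ y ∈ P, ρ y v = v ∧ ∀ z, w (ρ y z) = w z) ∧
    (∀ x ∈ E, ρ x v = μ x • v ∧ ∀ z, w (ρ x z) = μ x * w z) ∧ π (w v) ≠ 0

/-- A weight of the contragredient. -/
theorem vis_dual {L : Type*} [AddCommGroup L] [Module R L] (ρ : Representation R G L)
    {P E : Subgroup G} {μ : G → R} (h : Vis π ρ P E μ) :
    Vis π ρ.dual P E (fun x => μ x⁻¹) := by
  obtain ⟨v, w, hP, hE, hne⟩ := h
  refine ⟨w, Module.Dual.eval R L v, fun y hy => ⟨?_, fun f => ?_⟩, fun x hx => ⟨?_, fun f => ?_⟩, hne⟩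
  · exact LinearMap.ext fun z => (hP _ (inv_mem hy)).2 z
  · show f (ρ y⁻¹ v) = f v
    rw [(hP _ (inv_mem hy)).1]
  · exact LinearMap.ext fun z => (hE _ (inv_mem hx)).2 z
  · show f (ρ x⁻¹ v) = μ x⁻¹ * f v
    rw [(hE _ (inv_mem hx)).1, map_smul, smul_eq_mul]

variable {π}

open scoped Classical in
/-- Two representations without common constituent share no visible weight. -/
theorem sep {p e : ℕ} (hπ : Residue p π) (he : ¬ p ∣ e) {P E N : Subgroup G} (hPN : P ≤ N)
    (hP : Nat.card P = p) (hN : Nat.card N = p * e) (hdec : ∀ n ∈ N, ∃ y ∈ P, ∃ x ∈ E, n = y * x)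
    (hTI : ∀ g ∉ N, ∀ y ∈ P, g⁻¹ * y * g ∈ P → y = 1)
    (ρ₁ : Representation R G L₁) (ρ₂ : Representation R G L₂)
    (c : G → R) (m : R) (hm : m ≠ 0) (h₁ : ∀ z, ∑ g, c g • ρ₁ g z = m • z)
    (h₂ : ∀ z, ∑ g, c g • ρ₂ g z = 0) {μ : G → R} (hμ : ∀ x ∈ E, μ x * μ x⁻¹ = 1)
    (hv₁ : Vis π ρ₁ P E μ) (hv₂ : Vis π ρ₂ P E μ) : False := by
  obtain ⟨v₁, a, hP₁, hE₁, hne₁⟩ := hv₁
  obtain ⟨v₂, w, hP₂, hE₂, hne₂⟩ := hv₂
  let T : L₁ →ₗ[R] L₂ := ∑ g : G, (ρ₂ g).comp ((a.smulRight v₂).comp (ρ₁ g⁻¹))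
  have hT : ∀ z, T z = ∑ g : G, a (ρ₁ g⁻¹ z) • ρ₂ g v₂ := fun z => by
    simp [T, LinearMap.sum_apply, map_smul]
  have heq : ∀ h z, ρ₂ h (T z) = T (ρ₁ h z) := fun h z => by
    rw [hT, hT, map_sum]
    refine Fintype.sum_equiv (Equiv.mulLeft h) _ _ fun g => ?_
    rw [map_smul, ← Module.End.mul_apply, ← map_mul, ← Module.End.mul_apply (ρ₁ _) (ρ₁ h), ← map_mul]
    congr 2
    show _ = ρ₁ ((h * g)⁻¹ * h) z
    rw [show (h * g)⁻¹ * h = g⁻¹ by group]
  set f : G → R := fun g => w (ρ₂ g v₂) * a (ρ₁ g⁻¹ v₁) with hf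
  have hT0 : ∑ g, f g = 0 := by
    have h0 : m • T v₁ = 0 := by
      rw [← map_smul, ← h₁, map_sum]
      rw [Finset.sum_congr rfl fun g _ => by rw [map_smul, ← heq]]
      exact h₂ _
    have h1 := congrArg w h0
    rw [map_smul, map_zero, smul_eq_mul, hT, map_sum] at h1
    refine Eq.trans (Finset.sum_congr rfl fun g _ => ?_) ((mul_eq_zero.1 h1).resolve_left hm)
    rw [map_smul, smul_eq_mul, hf, mul_comm]
  -- the elements of the normaliser
  have hin : ∀ g ∈ N, f g = w v₂ * a v₁ := by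
    intro g hg
    obtain ⟨y, hy, x, hx, rfl⟩ := hdec g hg
    show w (ρ₂ (y * x) v₂) * a (ρ₁ (y * x)⁻¹ v₁) = _
    rw [mul_inv_rev, map_mul, map_mul, Module.End.mul_apply, Module.End.mul_apply, (hP₂ y hy).2,
      (hP₁ _ (inv_mem hy)).1, (hE₂ x hx).1, (hE₁ _ (inv_mem hx)).1, map_smul, map_smul,
      smul_eq_mul, smul_eq_mul]
    rw [mul_mul_mul_comm, hμ x hx, one_mul]
  -- the remaining elements
  set S : Finset G := Finset.univ.filter fun g => g ∉ N with hS
  have hout : ∃ r : R, ∑ g ∈ S, f g = (p : R) * (p : R) * r := by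
    haveI : Fintype (DoubleCoset.Quotient (P : Set G) (P : Set G)) := by
      haveI : Finite (DoubleCoset.Quotient (P : Set G) (P : Set G)) :=
        Quotient.finite _
      exact Fintype.ofFinite _
    refine ⟨∑ q ∈ S.image (DoubleCoset.mk P P), f q.out, ?_⟩
    rw [Finset.mul_sum, ← Finset.sum_fiberwise_of_maps_to (t := S.image (DoubleCoset.mk P P))
      (fun g hg => Finset.mem_image_of_mem (DoubleCoset.mk P P) hg) f]
    refine Finset.sum_congr rfl fun q hq => ?_
    obtain ⟨g, hg, rfl⟩ := Finset.mem_image.1 hq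
    have hgN : g ∉ N := (Finset.mem_filter.1 hg).2
    obtain ⟨y₀, z₀, hy₀, hz₀, hout⟩ := DoubleCoset.mk_out_eq_mul P P g
    have hinv : ∀ y ∈ P, ∀ z ∈ P, ∀ g, f (y * g * z) = f g := by
      intro y hy z hz g
      show w (ρ₂ (y * g * z) v₂) * a (ρ₁ (y * g * z)⁻¹ v₁) = _
      simp only [mul_inv_rev, map_mul, Module.End.mul_apply, (hP₂ z hz).1, (hP₂ y hy).2,
        (hP₁ _ (inv_mem hy)).1, (hP₁ _ (inv_mem hz)).2]
      rfl
    have hfib : S.filter (fun h => DoubleCoset.mk P P h = DoubleCoset.mk P P g) =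
        (Finset.univ : Finset (P × P)).image fun yz => (yz.1 : G) * g * yz.2 := by
      ext h
      simp only [Finset.mem_filter, Finset.mem_image, Finset.mem_univ, true_and]
      constructor
      · rintro ⟨-, hh⟩
        obtain ⟨y, hy, z, hz, e⟩ := (DoubleCoset.eq P P g h).1 hh.symm
        exact ⟨(⟨y, hy⟩, ⟨z, hz⟩), e.symm⟩
      · rintro ⟨⟨y, z⟩, rfl⟩
        refine ⟨Finset.mem_filter.2 ⟨Finset.mem_univ _, fun hc => hgN ?_⟩,
          ((DoubleCoset.eq P P g _).2 ⟨y, y.2, z, z.2, rfl⟩).symm⟩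
        have := N.mul_mem (N.mul_mem (hPN (inv_mem y.2)) hc) (hPN (inv_mem z.2))
        simpa [mul_assoc] using this
    have hinj : Function.Injective fun yz : P × P => (yz.1 : G) * g * yz.2 := by
      rintro ⟨y, z⟩ ⟨y', z'⟩ h
      have h' : (y : G) * g * z = y' * g * z' := h
      have hy : (y' : G)⁻¹ * y = 1 := by
        refine hTI g hgN _ (P.mul_mem (inv_mem y'.2) y.2) ?_
        rw [show g⁻¹ * ((y' : G)⁻¹ * y) * g = g⁻¹ * (y' : G)⁻¹ * ((y : G) * g * z) * (z : G)⁻¹ by
          group, h', show g⁻¹ * (y' : G)⁻¹ * ((y' : G) * g * z') * (z : G)⁻¹ = (z' : G) * (z : G)⁻¹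
          by group]
        exact P.mul_mem z'.2 (inv_mem z.2)
      have e1 : y = y' := Subtype.ext (inv_mul_eq_one.1 hy).symm
      subst e1
      exact Prod.ext rfl (Subtype.ext (mul_left_cancel h'))
    rw [hfib, Finset.sum_image fun _ _ _ _ h => hinj h,
      Finset.sum_congr rfl fun yz _ => hinv _ yz.1.2 _ yz.2.2 g, Finset.sum_const, Finset.card_univ,
      ← Nat.card_eq_fintype_card, Nat.card_prod, hP, nsmul_eq_mul, hout,
      hinv _ hy₀ _ hz₀ g, Nat.cast_mul]
  obtain ⟨r, hr⟩ := hout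
  have hsplit : (p : R) * (e : R) * (w v₂ * a v₁) + (p : R) * (p : R) * r = 0 := by
    have h := Finset.sum_filter_add_sum_filter_not (Finset.univ : Finset G) (fun g => g ∈ N) f
    rw [Finset.sum_congr rfl fun g hg => hin g (Finset.mem_filter.1 hg).2, Finset.sum_const,
      ← hS, hr, hT0, nsmul_eq_mul] at h
    have hcard : (Finset.univ.filter fun g => g ∈ N).card = p * e := by
      rw [← hN, Nat.card_eq_fintype_card, Fintype.card_subtype]
    rwa [hcard, Nat.cast_mul] at h
  have h2 : (p : R) * ((e : R) * (w v₂ * a v₁) + (p : R) * r) = 0 := by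
    rw [← hsplit]; ring
  have h3 := congrArg π ((mul_eq_zero.1 h2).resolve_left hπ.p0)
  have hp0 : (p : k) = 0 := by
    rw [← map_natCast π]; exact (hπ.ker _).2 ⟨1, (mul_one _).symm⟩
  rw [map_add, map_mul, map_mul, map_mul, map_zero, map_natCast, map_natCast, hp0,
    zero_mul, add_zero] at h3
  haveI := (CharP.charP_iff_prime_eq_zero hπ.hp (R := k)).2 hp0
  rcases mul_eq_zero.1 h3 with h | h
  · exact he ((CharP.cast_eq_zero_iff k p e).1 h)
  · rcases mul_eq_zero.1 h with h | h
    · exact hne₂ h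
    · exact hne₁ h

end sep

end Cfsg.Agent.UniqueDegree
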