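/-
Weights of sums of irreducible characters stable under the automorphisms fixing the `p'`-roots of
unity, taken on the lattice of the corresponding idempotent.
-/
import Cfsg.Agent.Lib.UniqueDegree.Weights
import Cfsg.Agent.Lib.DefOne.Bound
import Cfsg.Agent.Lib.Char.CoprimeConstituent

set_option linter.unusedSectionVars false
set_option linter.style.haveILetI false

namespace Cfsg.Agent.UniqueDegree

open Cfsg Cfsg.Agent.Char Cfsg.Agent.Blocks Cfsg.Agent.DefOne MonoidAlgebra
open scoped ComplexConjugate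

universe u

variable {G : Type u} [Group G] [Fintype G] {p : ℕ} {M : Ideal AlgInt} [M.IsPrime]

/-- The local configuration. -/
structure Loc (p e : ℕ) (P E N : Subgroup G) : Prop where
  hp : p.Prime
  hP : Nat.card P = p
  hE : Nat.card E = e
  hN : Nat.card N = p * e
  hPN : P ≤ N
  hpe : ¬ p ∣ e
  hcomm : ∀ x ∈ E, ∀ y ∈ E, x * y = y * x
  hnorm : ∀ x ∈ E, ∀ y ∈ P, x * y * x⁻¹ ∈ P
  hdec : ∀ n ∈ N, ∃ y ∈ P, ∃ x ∈ E, n = y * x
  hTI : ∀ g ∉ N, ∀ y ∈ P, g⁻¹ * y * g ∈ P → y = 1

/-- Stability under the automorphisms fixing the `p'`-roots of unity. -/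
def GalStable (p : ℕ) (S : Finset (IrrCharacter G)) : Prop :=
  ∀ σ, FixesP p σ → ∀ ψ ∈ S, galT σ ψ ∈ S

/-- The representation on the lattice of the idempotent of `S`. -/
noncomputable def latRep (p : ℕ) (M : Ideal AlgInt) [M.IsPrime] (S : Finset (IrrCharacter G)) :
    Representation (rR p M) G (latE p M (blockElt (↑S : Set (IrrCharacter G)))) where
  toFun g := lmE p M _ (of ℂ G g) fun _ hx =>
    mul_mem_latE (of_mem_RG _) (IsClassElt.comm (isClassElt_blockElt _) _).symm hx
  map_one' := LinearMap.ext fun x => Subtype.ext (by rw [lmE_apply, map_one, one_mul]; rfl)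
  map_mul' g h := LinearMap.ext fun x => Subtype.ext (by
    simp only [Module.End.mul_apply, lmE_apply, map_mul, mul_assoc])

theorem latRep_apply (S : Finset (IrrCharacter G)) (g : G)
    (x : latE p M (blockElt (↑S : Set (IrrCharacter G)))) :
    (latRep p M S g x : MonoidAlgebra ℂ G) = of ℂ G g * x := rfl

theorem trace_latRep (hM : IsPModular p M) {S : Finset (IrrCharacter G)} (hS : GalStable p S)
    (g : G) :
    ((LinearMap.trace (rR p M) _ (latRep p M S g) : rR p M) : ℂ) =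
      ∑ χ ∈ S, (χ : G → ℂ) 1 * (χ : G → ℂ) g := by
  classical
  refine (trace_lmE hM (a := of ℂ G g) (blockElt_idem _) (m := Nat.card G) Nat.card_pos.ne'
    (card_smul_blockElt_mem hM S hS)
    (fun _ hx => mul_mem_latE (of_mem_RG _)
      (IsClassElt.comm (isClassElt_blockElt _) _).symm hx)).trans ?_
  conv_rhs => rw [← Finset.univ_inter S, ← Finset.sum_ite_mem]
  refine Finset.sum_congr rfl fun χ _ => ?_
  rw [chiExt_mul_central χ _ (isClassElt_blockElt _), omega_blockElt, chiExt_of]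
  simp

theorem sum_coeff_smul_of (x : MonoidAlgebra ℂ G) : ∑ g, x.coeff g • of ℂ G g = x := by
  classical
  ext h
  simp [Finsupp.single_apply]

open scoped Classical in
/-- The coefficients of `|G|` times the idempotent of `S`, in the ring of the lattice. -/
noncomputable def cfS (p : ℕ) (M : Ideal AlgInt) [M.IsPrime] (S : Finset (IrrCharacter G)) (g : G) :
    rR p M :=
  if h : ((Nat.card G : ℂ) • blockElt (↑S : Set (IrrCharacter G))).coeff g ∈ rR p M then ⟨_, h⟩
  else 0

theorem coe_cfS (hM : IsPModular p M) {S : Finset (IrrCharacter G)} (hS : GalStable p S) (g : G) :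
    (cfS p M S g : ℂ) = ((Nat.card G : ℂ) • blockElt (↑S : Set (IrrCharacter G))).coeff g := by
  rw [cfS, dif_pos (coeff_mem_of_mem_RG (card_smul_blockElt_mem hM S hS) g)]

theorem sum_cfS_smul (hM : IsPModular p M) {S T : Finset (IrrCharacter G)} (hS : GalStable p S)
    (z : latE p M (blockElt (↑T : Set (IrrCharacter G)))) :
    ((∑ g, cfS p M S g • latRep p M T g z :
        latE p M (blockElt (↑T : Set (IrrCharacter G)))) : MonoidAlgebra ℂ G) =
      (Nat.card G : ℂ) • (blockElt (↑S : Set (IrrCharacter G)) * z) := by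
  rw [Submodule.coe_sum, ← smul_mul_assoc]
  conv_rhs => rw [← sum_coeff_smul_of ((Nat.card G : ℂ) • blockElt (↑S : Set (IrrCharacter G))),
    Finset.sum_mul]
  refine Finset.sum_congr rfl fun g _ => ?_
  rw [Submodule.coe_smul, latRep_apply, rsmul_def, coe_cfS hM hS, smul_mul_assoc]

theorem blockElt_mul_disjoint {S T : Finset (IrrCharacter G)} (h : Disjoint S T) :
    blockElt (↑S : Set (IrrCharacter G)) * blockElt (↑T : Set (IrrCharacter G)) = 0 := by
  classical
  refine classElt_ext (IsClassElt.mul (isClassElt_blockElt _) (isClassElt_blockElt _))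
    (fun _ _ => by simp) fun χ => ?_
  rw [omega_mul χ (isClassElt_blockElt _) (isClassElt_blockElt _), omega_blockElt, omega_blockElt]
  have h0 : omega χ (0 : MonoidAlgebra ℂ G) = 0 := by simp [omega]
  rw [h0]
  split_ifs with h1 h2 <;> simp
  exact Finset.disjoint_left.1 h h1 h2

theorem sum_cfS_smul_self (hM : IsPModular p M) {S : Finset (IrrCharacter G)} (hS : GalStable p S)
    (z : latE p M (blockElt (↑S : Set (IrrCharacter G)))) :
    ∑ g, cfS p M S g • latRep p M S g z = (Nat.card G : rR p M) • z := by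
  refine Subtype.ext ?_
  rw [sum_cfS_smul hM hS, fixed_of_mem_latE (blockElt_idem _) z.2, Submodule.coe_smul, rsmul_def]
  simp

theorem sum_cfS_smul_disjoint (hM : IsPModular p M) {S T : Finset (IrrCharacter G)}
    (hS : GalStable p S) (h : Disjoint S T)
    (z : latE p M (blockElt (↑T : Set (IrrCharacter G)))) :
    ∑ g, cfS p M S g • latRep p M T g z = 0 := by
  refine Subtype.ext ?_
  rw [sum_cfS_smul hM hS, ← fixed_of_mem_latE (blockElt_idem _) z.2, ← mul_assoc,
    blockElt_mul_disjoint h, zero_mul, smul_zero]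
  rfl

open scoped Classical in
/-- A linear character of `E` with values in the ring of the lattice. -/
noncomputable def mu (p : ℕ) (M : Ideal AlgInt) [M.IsPrime] {E : Subgroup G} (l : E →* ℂˣ) (x : G) :
    rR p M :=
  if h : x ∈ E then (if h' : ((l ⟨x, h⟩ : ℂˣ) : ℂ) ∈ rR p M then ⟨_, h'⟩ else 1) else 1

variable {e : ℕ} {P E N : Subgroup G}

theorem coe_mu (L : Loc p e P E N) (hM : IsPModular p M) (l : E →* ℂˣ) (x : E) :
    (mu p M l x : ℂ) = ((l x : ℂˣ) : ℂ) := by
  have h' : ((l x : ℂˣ) : ℂ) ∈ rR p M := by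
    refine pRoot_mem_rR hM ⟨Nat.card E, ?_, ?_⟩
    · rw [L.hE]; exact L.hpe
    · rw [← Units.val_pow_eq_pow_val, ← map_pow, pow_card_eq_one', map_one, Units.val_one]
  simp only [mu, dif_pos x.2, Subtype.coe_eta, dif_pos h']

theorem mu_mul (L : Loc p e P E N) (hM : IsPModular p M) (l : E →* ℂˣ) (x y : E) :
    mu p M l (x * y : E) = mu p M l x * mu p M l y := Subtype.ext (by
  rw [Subring.coe_mul, coe_mu L hM, coe_mu L hM, coe_mu L hM, map_mul, Units.val_mul])

theorem mu_mul_inv (L : Loc p e P E N) (hM : IsPModular p M) (l : E →* ℂˣ) :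
    ∀ x ∈ E, mu p M l x * mu p M l x⁻¹ = 1 := by
  intro x hx
  refine Subtype.ext ?_
  rw [Subring.coe_mul, coe_mu L hM l ⟨x, hx⟩, ← E.coe_inv ⟨x, hx⟩, coe_mu L hM l, map_inv,
    ← Units.val_mul, mul_inv_cancel]
  rfl

/-- `l` is a weight of `S`. -/
def Wt (p : ℕ) (M : Ideal AlgInt) [M.IsPrime] (P : Subgroup G) {E : Subgroup G}
    (S : Finset (IrrCharacter G)) (l : E →* ℂˣ) : Prop :=
  Vis (rRes p M) (latRep p M S) P E (mu p M l)

/-- Stable sums with a positive value on `P` have a weight. -/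
theorem exists_wt (L : Loc p e P E N) (hM : IsPModular p M) {S : Finset (IrrCharacter G)}
    (hS : GalStable p S) {c : ℕ} (hc : 0 < c)
    (hval : ∀ y ∈ P, y ≠ 1 → ∑ χ ∈ S, (χ : G → ℂ) 1 * (χ : G → ℂ) y = (c : ℂ)) :
    ∃ l : E →* ℂˣ, Wt p M P S l := by
  classical
  haveI := isPrincipalIdealRing_rR hM
  haveI := latE_finite (p := p) (M := M) (blockElt (↑S : Set (IrrCharacter G)))
  haveI := latE_free hM (blockElt (↑S : Set (IrrCharacter G)))
  set ρ := latRep p M S with hρ
  haveI := Fact.mk L.hp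
  haveI : IsCyclic P := isCyclic_of_prime_card L.hP
  obtain ⟨y0, hy0⟩ := IsCyclic.exists_generator (α := P)
  have hord : orderOf (y0 : G) = p := by
    rw [Subgroup.orderOf_coe, orderOf_eq_card_of_forall_mem_zpowers hy0, L.hP]
  have hτ : ρ (y0 : G) ^ p = 1 := by
    rw [← map_pow, show (y0 : G) ^ p = 1 from orderOf_dvd_iff_pow_eq_one.1 hord.dvd, map_one]
  obtain ⟨v, hv, w, hw, hne⟩ := exists_pairing (residue_rR hM) (ρ (y0 : G)) hτ c hc fun i hi hi0 => by
    refine Subtype.ext ?_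
    rw [← map_pow, hρ, trace_latRep hM hS, hval _ (P.pow_mem y0.2 i) fun h => hi0 ?_]
    · simp
    · exact Nat.eq_zero_of_dvd_of_lt (hord ▸ orderOf_dvd_of_pow_eq_one h) (Finset.mem_range.1 hi)
  have hfix : ∀ y ∈ P, ρ y v = v ∧ ∀ z, w (ρ y z) = w z := by
    intro y hy
    obtain ⟨i, hi⟩ := (mem_powers_iff_mem_zpowers).2 (hy0 ⟨y, hy⟩)
    have hi' : (y0 : G) ^ i = y := by simpa using congrArg Subtype.val hi
    rw [← hi', map_pow]
    clear hi hi'
    induction i with
    | zero => simp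
    | succ i ih => simp [pow_succ, hv, ih.1, ih.2, hw]
  let _ : CommGroup E :=
    { (inferInstance : Group E) with mul_comm := fun a b => Subtype.ext (L.hcomm _ a.2 _ b.2) }
  haveI : Fintype (E →* ℂˣ) := Fintype.ofFinite _
  have hu : IsUnit (e : rR p M) := isUnit_rR_iff.2 (by
    rw [map_natCast]; exact natCast_resField_ne_zero hM L.hpe)
  obtain ⟨a, ha⟩ := hu.exists_left_inv
  -- the projections
  let pv : (E →* ℂˣ) → latE p M (blockElt (↑S : Set (IrrCharacter G))) := fun l =>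
    a • ∑ x : E, mu p M l (x⁻¹ : E) • ρ (x : G) v
  have hsum : ∑ l, pv l = v := by
    simp only [pv, ← Finset.smul_sum]
    rw [Finset.sum_comm]
    simp only [← Finset.sum_smul]
    have hcol : ∀ x : E, ∑ l : E →* ℂˣ, mu p M l (x⁻¹ : E) = if x = 1 then (e : rR p M) else 0 := by
      intro x
      refine Subtype.ext ?_
      rw [AddSubmonoidClass.coe_finsetSum, Finset.sum_congr rfl fun l _ => coe_mu L hM l x⁻¹,
        CoprimeConst.sum_hom_apply]
      split_ifs with h1 h2 h2 <;> simp_all [← L.hE, Nat.card_eq_fintype_card]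
    simp only [hcol, ite_smul, zero_smul, Finset.sum_ite_eq', Finset.mem_univ, if_true]
    rw [smul_smul, ha, one_smul, Subgroup.coe_one, map_one, Module.End.one_apply]
  obtain ⟨l, hl⟩ : ∃ l, rRes p M (w (pv l)) ≠ 0 := by
    by_contra! h
    refine hne ?_
    rw [← hsum, map_sum, map_sum]
    exact Finset.sum_eq_zero fun l _ => h l
  let wl : latE p M (blockElt (↑S : Set (IrrCharacter G))) →ₗ[rR p M] rR p M :=
    a • ∑ x : E, mu p M l (x⁻¹ : E) • w.comp (ρ (x : G))
  have hwl : ∀ z, wl z = a * ∑ x : E, mu p M l (x⁻¹ : E) * w (ρ (x : G) z) := fun z => by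
    simp [wl, LinearMap.sum_apply, Finset.mul_sum]
  have hvE : ∀ x' ∈ E, ρ x' (pv l) = mu p M l x' • pv l := by
    intro x' hx'
    simp only [pv, map_smul, map_sum, Finset.smul_sum]
    refine Fintype.sum_equiv (Equiv.mulLeft (⟨x', hx'⟩ : E)) _ _ fun x => ?_
    rw [← Module.End.mul_apply, ← map_mul, smul_smul, smul_smul, smul_smul]
    congr 1
    show a * mu p M l (x⁻¹ : E) = mu p M l x' * a * mu p M l ((⟨x', hx'⟩ * x : E)⁻¹ : E)
    rw [mul_comm (mu p M l x') a, mul_assoc, show mu p M l x' = mu p M l ((⟨x', hx'⟩ : E) : G) from rfl,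
      ← mu_mul L hM]
    congr 2
    simp
  refine ⟨l, pv l, wl, fun y hy => ⟨?_, fun z => ?_⟩, fun x' hx' => ⟨hvE x' hx', fun z => ?_⟩, ?_⟩
  · simp only [pv, map_smul, map_sum]
    congr 1
    refine Finset.sum_congr rfl fun x _ => ?_
    congr 1
    have h1 := L.hnorm _ (E.inv_mem x.2) y hy
    rw [← Module.End.mul_apply, ← map_mul,
      show y * (x : G) = (x : G) * ((x : G)⁻¹ * y * (x : G)⁻¹⁻¹) by group, map_mul,
      Module.End.mul_apply, (hfix _ h1).1]
  · rw [hwl, hwl]
    congr 1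
    refine Finset.sum_congr rfl fun x _ => ?_
    congr 1
    have h1 := L.hnorm _ x.2 y hy
    rw [← Module.End.mul_apply, ← map_mul,
      show (x : G) * y = ((x : G) * y * (x : G)⁻¹) * x by group, map_mul,
      Module.End.mul_apply, (hfix _ h1).2]
  · rw [hwl, hwl, mul_left_comm (mu p M l x')]
    congr 1
    rw [Finset.mul_sum]
    refine Fintype.sum_equiv (Equiv.mulRight (⟨x', hx'⟩ : E)) _ _ fun x => ?_
    rw [← Module.End.mul_apply, ← map_mul, ← mul_assoc]
    congr 1
    show _ = mu p M l ((⟨x', hx'⟩ : E) : G) * mu p M l ((x * ⟨x', hx'⟩ : E)⁻¹ : E)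
    rw [← mu_mul L hM]
    congr 1
    simp
  · rw [hwl]
    have h2 : ∀ x : E, mu p M l (x⁻¹ : E) * w (ρ (x : G) (pv l)) = w (pv l) := fun x => by
      rw [hvE _ x.2, map_smul, smul_eq_mul, ← mul_assoc, ← mu_mul L hM, inv_mul_cancel]
      rw [show mu p M l ((1 : E) : G) = 1 from Subtype.ext (by rw [coe_mu L hM]; simp), one_mul]
    rw [Finset.sum_congr rfl fun x _ => h2 x, Finset.sum_const, Finset.card_univ,
      ← Nat.card_eq_fintype_card, L.hE, nsmul_eq_mul, ← mul_assoc, ha, one_mul]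
    exact hl

/-- Disjoint stable sums share no weight. -/
theorem wt_disjoint (L : Loc p e P E N) (hM : IsPModular p M) {S T : Finset (IrrCharacter G)}
    (hS : GalStable p S) (hd : Disjoint S T) {l : E →* ℂˣ}
    (h₁ : Wt p M P S l) (h₂ : Wt p M P T l) : False :=
  sep (residue_rR hM) L.hpe L.hPN L.hP L.hN L.hdec L.hTI _ _ (cfS p M S) (Nat.card G : rR p M)
    (Nat.cast_ne_zero.2 Nat.card_pos.ne') (sum_cfS_smul_self hM hS)
    (sum_cfS_smul_disjoint hM hS hd) (mu_mul_inv L hM l) h₁ h₂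

/-- A real stable sum shares no weight with the dual of a disjoint one. -/
theorem wt_disjoint_inv (L : Loc p e P E N) (hM : IsPModular p M) {S T : Finset (IrrCharacter G)}
    (hS : GalStable p S) (hd : Disjoint S T)
    (hreal : ∀ g, ∑ χ ∈ S, (χ : G → ℂ) 1 * (χ : G → ℂ) g⁻¹ = ∑ χ ∈ S, (χ : G → ℂ) 1 * (χ : G → ℂ) g)
    {l : E →* ℂˣ} (h₁ : Wt p M P S l) (h₂ : Wt p M P T l⁻¹) : False := by
  classical
  have hmu : ∀ x ∈ E, mu p M l⁻¹ x⁻¹ = mu p M l x := fun x hx => Subtype.ext (by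
    rw [coe_mu L hM l ⟨x, hx⟩, ← E.coe_inv ⟨x, hx⟩, coe_mu L hM, MonoidHom.inv_apply, map_inv,
      inv_inv])
  have h₂' : Vis (rRes p M) (latRep p M T).dual P E (mu p M l) := by
    obtain ⟨v, w, hP, hE, hne⟩ := vis_dual (rRes p M) _ h₂
    refine ⟨v, w, hP, fun x hx => ?_, hne⟩
    rw [← hmu x hx]
    exact hE x hx
  have hcf : ∀ g, cfS p M S g⁻¹ = cfS p M S g := fun g => Subtype.ext (by
    rw [coe_cfS hM hS, coe_cfS hM hS, MonoidAlgebra.coeff_smul, Finsupp.smul_apply,
      Finsupp.smul_apply, coeff_blockElt, coeff_blockElt, blockCoeff_eq_sum, blockCoeff_eq_sum]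
    congr 2
    have hfs : ∀ a : G, ∑ χ ∈ Finset.univ.filter (· ∈ (↑S : Set (IrrCharacter G))),
        (χ : G → ℂ) 1 * conj ((χ : G → ℂ) a) = ∑ χ ∈ S, (χ : G → ℂ) 1 * (χ : G → ℂ) a⁻¹ := fun a =>
      Finset.sum_congr (by ext; simp) fun χ _ => by rw [irr_inv]
    rw [hfs, hfs, inv_inv, hreal])
  refine sep (residue_rR hM) L.hpe L.hPN L.hP L.hN L.hdec L.hTI _ _ (cfS p M S)
    (Nat.card G : rR p M) (Nat.cast_ne_zero.2 Nat.card_pos.ne') (sum_cfS_smul_self hM hS)
    (fun f => LinearMap.ext fun z => ?_) (mu_mul_inv L hM l) h₁ h₂'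
  have h0 := congrArg f (sum_cfS_smul_disjoint hM hS hd z)
  rw [map_sum, map_zero] at h0
  rw [LinearMap.sum_apply, LinearMap.zero_apply, ← h0]
  refine Fintype.sum_equiv (Equiv.inv G) _ _ fun g => ?_
  show cfS p M S g • f (latRep p M T g⁻¹ z) = f (cfS p M S g⁻¹ • latRep p M T g⁻¹ z)
  rw [hcf, map_smul]

/-- The trivial character only has the trivial weight. -/
theorem wt_triv (L : Loc p e P E N) (hM : IsPModular p M) (χ₀ : IrrCharacter G)
    (h1 : ∀ g, (χ₀ : G → ℂ) g = 1) {l : E →* ℂˣ} (h : Wt p M P {χ₀} l) : l = 1 := by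
  classical
  have hfixg : ∀ g : G, of ℂ G g * blockElt (↑({χ₀} : Finset (IrrCharacter G)) : Set (IrrCharacter G)) =
      blockElt (↑({χ₀} : Finset (IrrCharacter G)) : Set (IrrCharacter G)) := by
    intro g
    ext a
    rw [MonoidAlgebra.of_apply, MonoidAlgebra.coeff_single_mul_apply, coeff_blockElt, coeff_blockElt,
      one_mul, blockCoeff_eq_sum, blockCoeff_eq_sum]
    congr 1
    refine Finset.sum_congr rfl fun χ hχ => ?_
    obtain rfl : χ = χ₀ := by simpa using hχ
    rw [h1, h1, h1]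
  obtain ⟨v, w, -, hE, hne⟩ := h
  refine MonoidHom.ext fun x => Units.ext ?_
  have hv : latRep p M {χ₀} (x : G) v = v := Subtype.ext (by
    rw [latRep_apply, ← fixed_of_mem_latE (blockElt_idem _) v.2, ← mul_assoc, hfixg])
  have h2 := congrArg w (hE _ x.2).1
  rw [hv, map_smul, smul_eq_mul] at h2
  have h3 : mu p M l x = 1 := by
    refine (mul_left_eq_self₀.1 h2.symm).resolve_right fun h0 => hne (by rw [h0, map_zero])
  rw [← coe_mu L hM l x, h3, MonoidHom.one_apply, Units.val_one]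
  rfl

end Cfsg.Agent.UniqueDegree
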