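/-
Complement of odd order: a faithful character of degree `(p - 1) / 2` and `PSL(2, p)`.
-/
import Cfsg.Agent.Lib.UniqueDegree.Dihedral
import Cfsg.Agent.Lib.UniqueDegree.LatRep
import Cfsg.Agent.Lib.DefOne.General
import Cfsg.Agent.Lib.DefOne.Principal
import Cfsg.Agent.Lib.DefOne.Apply
import Cfsg.Agent.Lib.DefOne.DegreeMain
import Cfsg.Agent.Lib.SmallDim.HalfDegree

set_option linter.unusedSectionVars false
set_option linter.style.haveILetI false

namespace Cfsg.Agent.UniqueDegree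

open Cfsg Cfsg.Agent.Char Cfsg.Agent.Blocks Cfsg.Agent.DefOne
open scoped ComplexConjugate Pointwise

universe u

variable {G : Type u} [Group G] [Fintype G] {p : ℕ} [hpF : Fact p.Prime]

theorem galT_eq_of_values (P : Sylow p G) (hP : Nat.card P = p)
    (hC : ∀ y ∈ (P : Subgroup G), y ≠ 1 → ∀ g, g * y = y * g → g ∈ (P : Subgroup G))
    {σ : ℂ ≃+* ℂ} (hσ : FixesP p σ) (χ : IrrCharacter G)
    (h : ∀ y ∈ (P : Subgroup G), y ≠ 1 → σ ((χ : G → ℂ) y) = (χ : G → ℂ) y) : galT σ χ = χ := by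
  classical
  have hp := hpF.out
  refine Subtype.ext (funext fun g => ?_)
  rw [galT_apply]
  by_cases hg : p ∣ orderOf g
  swap
  · exact irr_regular_fixed hσ χ hg
  set z := g ^ (orderOf g / p) with hz
  have hzo : orderOf z = p := orderOf_pow_orderOf_div (orderOf_pos g).ne' hg
  obtain ⟨R, hR⟩ := (show IsPGroup p (Subgroup.zpowers z) from
    IsPGroup.of_card (n := 1) (by rw [Nat.card_zpowers, hzo, pow_one])).exists_le_sylow
  obtain ⟨c, hc⟩ := MulAction.exists_smul_eq G R P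
  have hzP : c * z * c⁻¹ ∈ (P : Subgroup G) := by
    rw [← hc, Sylow.coe_subgroup_smul]
    exact ⟨z, hR (Subgroup.mem_zpowers z), rfl⟩
  have hz1 : c * z * c⁻¹ ≠ 1 := fun h0 => by
    rw [conj_eq_one_iff] at h0
    rw [h0, orderOf_one] at hzo
    exact hp.ne_one hzo.symm
  have hgP : c * g * c⁻¹ ∈ (P : Subgroup G) := by
    refine hC _ hzP hz1 _ ?_
    rw [conj_mul, conj_mul, hz, ← pow_succ', ← pow_succ]
  have hg1 : c * g * c⁻¹ ≠ 1 := fun h0 => by
    rw [conj_eq_one_iff] at h0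
    rw [h0, orderOf_one, Nat.dvd_one] at hg
    exact hp.ne_one hg
  rw [← irr_isConj χ (isConj_iff.2 ⟨c, rfl⟩ : IsConj g (c * g * c⁻¹))]
  exact h _ hgP hg1

variable {P : Sylow p G} {E : Subgroup G}

open scoped Classical in
theorem Data.odd_psl (D : Data p (P : Subgroup G) E) (hodd : Odd (Nat.card E)) :
    Nonempty (G ≃* Matrix.ProjectiveSpecialLinearGroup (Fin 2) (ZMod p)) := by
  classical
  have hp := hpF.out
  haveI := D.hsimple
  set e := Nat.card E with he
  have he3 : 3 ≤ e := by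
    have := D.he2
    obtain ⟨j, hj⟩ := hodd
    omega
  have hp5 : 5 ≤ p := by
    have h := Nat.le_of_dvd (by have := hp.two_le; omega) D.he
    rcases (show p = 4 ∨ 5 ≤ p by omega) with h4 | h4
    · rw [h4] at hp; norm_num at hp
    · exact h4
  have h2e : 2 * e ≤ p - 1 := by
    obtain ⟨j, hj⟩ := D.he
    have hj' : p - 1 = e * j := hj
    rcases (show j = 0 ∨ j = 1 ∨ 2 ≤ j by omega) with h | h | h
    · rw [h, mul_zero] at hj'; omega
    · rw [h, mul_one] at hj'
      rcases hp.eq_two_or_odd with h2 | h2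
      · omega
      · obtain ⟨i, hi⟩ := hodd
        omega
    · have := Nat.mul_le_mul_left e h
      omega
  -- the configuration
  obtain ⟨V, e', K, he'⟩ := exists_conf (G := G) hp P D.hP
  set Q : Subgroup G := (P : Subgroup G) with hQ
  set N := Subgroup.normalizer (Q : Set G) with hNdef
  obtain ⟨⟨y0, hy0⟩, hy01⟩ : ∃ y : Q, y ≠ 1 := by
    haveI : Nontrivial Q := Finite.one_lt_card_iff_nontrivial.1 (D.hP ▸ hp.one_lt)
    exact exists_ne 1
  have hy01' : y0 ≠ 1 := fun h => hy01 (Subtype.ext h)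
  have hQc : ∀ a ∈ Q, ∀ b ∈ Q, a * b = b * a := K.D.comm
  have hCQ : Subgroup.centralizer (Q : Set G) = Q :=
    le_antisymm (fun g hg => D.hC y0 hy0 hy01' g (Subgroup.mem_centralizer_iff.1 hg y0 hy0).symm)
      fun g hg => Subgroup.mem_centralizer_iff.2 fun t ht => hQc t ht g hg
  haveI : Fintype V := Fintype.ofFinite _
  haveI : Fintype Q := Fintype.ofFinite _
  haveI : Fintype N := Fintype.ofFinite _
  haveI : Fintype (Q →* ℂˣ) := Fintype.ofFinite _
  have hV1 : Nat.card V = 1 := by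
    have h := card_centralizer K
    rw [hCQ, D.hP] at h
    exact Nat.eq_of_mul_eq_mul_left hp.pos (by rw [← h, mul_one])
  have hV : ∀ v : V, (v : G) = 1 := fun v => by
    have : Subsingleton V := (Nat.card_eq_one_iff_unique.1 hV1).1
    rw [Subsingleton.elim v 1]; rfl
  have hEN : E ≤ N := le_sup_right.trans D.hN.le
  have hset : (N : Set G) = (Q : Set G) * (E : Set G) := by
    rw [show N = Q ⊔ E from D.hN.symm]; exact Subgroup.coe_mul_of_right_le_normalizer_left Q E hEN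
  have hdec : ∀ n ∈ N, ∃ y ∈ Q, ∃ x ∈ E, n = y * x := by
    intro n hn
    have h : n ∈ (N : Set G) := hn
    rw [hset] at h
    obtain ⟨y, hy, x, hx, h'⟩ := h
    exact ⟨y, hy, x, hx, h'.symm⟩
  have hN : Nat.card N = p * e := by
    rw [← D.hP, he, ← Nat.card_prod]
    refine (Nat.card_eq_of_bijective (fun yx : Q × E => (⟨(yx.1 : G) * yx.2,
      N.mul_mem (Subgroup.le_normalizer yx.1.2) (hEN yx.2.2)⟩ : N)) ⟨fun a b h => ?_, fun n => ?_⟩).symm
    · have h' : (a.1 : G) * a.2 = b.1 * b.2 := congrArg Subtype.val h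
      have h1 : (b.1 : G)⁻¹ * a.1 ∈ Q ⊓ E := ⟨Q.mul_mem (Q.inv_mem b.1.2) a.1.2, by
        rw [show (b.1 : G)⁻¹ * a.1 = (b.1 : G)⁻¹ * ((a.1 : G) * a.2) * (a.2 : G)⁻¹ by group, h',
          inv_mul_cancel_left]
        exact E.mul_mem b.2.2 (E.inv_mem a.2.2)⟩
      rw [D.hPE, Subgroup.mem_bot, inv_mul_eq_one] at h1
      rw [h1, mul_right_inj] at h'
      exact Prod.ext (Subtype.ext h1.symm) (Subtype.ext h')
    · obtain ⟨y, hy, x, hx, h⟩ := hdec n n.2
      exact ⟨(⟨y, hy⟩, ⟨x, hx⟩), Subtype.ext h.symm⟩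
  have hee : e' = e := by
    have h := (Q.subgroupOf N).card_mul_index
    rw [Nat.card_congr (Subgroup.subgroupOfEquivOfLe Subgroup.le_normalizer).toEquiv, D.hP, hN] at h
    rw [he', hCQ]
    exact Nat.eq_of_mul_eq_mul_left hp.pos h
  obtain ⟨M, hM⟩ := GlaubermanMod.exists_isPModular p
  haveI := hM.2.1.isPrime
  have L : Loc p e Q E N :=
    { hp := hp, hP := D.hP, hE := rfl, hN := hN, hPN := Subgroup.le_normalizer
      hpe := fun h => by have := Nat.le_of_dvd (by omega) h; omega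
      hcomm := fun x hx y hy => D.commE hx hy
      hnorm := fun x hx y hy => (Subgroup.mem_normalizer_iff.1 (hEN hx) y).1 hy
      hdec := hdec
      hTI := fun g hg y hy hgy => by
        by_contra hy1
        refine hg ?_
        have h := K.D.hTI y hy hy1 g⁻¹ (by rwa [inv_inv])
        exact N.inv_mem_iff.1 h }
  -- the families of the trivial character
  obtain ⟨eb, FX, FY, δ, sg, F⟩ := exists_families K hM (trivB V)
  have heb : eb = e := (eb_triv K F).trans hee
  have hphi : ∀ (χ : IrrCharacter G) (y : Q),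
      phi (χ : G → ℂ) (trivB V) y = (χ : G → ℂ) y := by
    intro χ y
    rw [phi, hV1, Nat.cast_one, inv_one, one_mul,
      Finset.sum_congr rfl fun v _ => show _ = (χ : G → ℂ) y by
        show (χ : G → ℂ) ((y : G) * v) * conj (1 : ℂ) = _
        rw [map_one, mul_one, hV v, mul_one],
      Finset.sum_const, Finset.card_univ, ← Nat.card_eq_fintype_card, hV1, one_smul]
  have hXval : ∀ χ ∈ FX, ∀ y ∈ Q, y ≠ 1 → (χ : G → ℂ) y = (sg χ : ℂ) := by
    intro χ hχ y hy hy1
    rw [← Families.phi_X K F hχ (y := ⟨y, hy⟩) fun h => hy1 (congrArg Subtype.val h), hphi]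
  have hout : ∀ χ, χ ∉ FX → χ ∉ FY → ∀ y ∈ Q, y ≠ 1 → (χ : G → ℂ) y = 0 := by
    intro χ h1 h2 y hy hy1
    rw [← hphi χ ⟨y, hy⟩]
    refine phi_eq_zero_of_not_inR K (fun hR => ?_) fun h => hy1 (congrArg Subtype.val h)
    obtain ⟨l, hl⟩ := hR
    exact hl (F.zero χ h1 h2 l)
  have hYrat : ∀ χ ∈ FY, ∀ z : ℤ, ¬ ∀ y ∈ Q, y ≠ 1 → (χ : G → ℂ) y = (z : ℂ) := by
    intro χ hχ z hz
    have hfix : ∀ σ, FixesP p σ → galT σ χ = χ := fun σ hσ =>
      galT_eq_of_values P D.hP D.hC hσ χ fun y hy hy1 => by rw [hz y hy hy1, map_intCast]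
    have hsub : FY ⊆ {χ} := fun θ hθ => by
      obtain ⟨σ, hσ, h⟩ := F.transY χ hχ θ hθ
      rw [← h, hfix σ hσ]; exact Finset.mem_singleton_self _
    have h1 := Finset.card_le_card hsub
    rw [Finset.card_singleton] at h1
    have h2 := F.cardY
    rw [heb] at h2
    have h3 := Nat.mul_le_mul_right e h1
    omega
  have hmemX : ∀ χ : IrrCharacter G, ∀ z : ℤ, z ≠ 0 →
      (∀ y ∈ Q, y ≠ 1 → (χ : G → ℂ) y = (z : ℂ)) → χ ∈ FX := by
    intro χ z hz h
    by_contra hχ
    by_cases hχ' : χ ∈ FY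
    · exact hYrat χ hχ' z h
    · have := (h y0 hy0 hy01').symm.trans (hout χ hχ hχ' y0 hy0 hy01')
      exact hz (by exact_mod_cast this)
  have hstab : ∀ χ ∈ FX, GalStable p ({χ} : Finset (IrrCharacter G)) := fun χ hχ σ hσ ψ hψ => by
    rw [Finset.mem_singleton] at hψ ⊢
    rw [hψ, F.fixX χ hχ σ hσ]
  -- the special characters
  set one : IrrCharacter G := ⟨fun _ => 1, isIrrCharacter_one⟩ with hone
  obtain ⟨θ, hθ1, hθy, -⟩ := D.htheta
  obtain ⟨ψ, hψ, -⟩ := id D.huniq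
  have hψP : ∀ y ∈ Q, y ≠ 1 → (ψ : G → ℂ) y = 0 := by
    intro y hy hy1
    have h := section_zero_of_dvd K hM (χ := ψ) (hψ ▸ dvd_refl p)
      (y := ⟨y, hy⟩) (fun h => hy1 (congrArg Subtype.val h)) 1
    simpa using h
  obtain ⟨X, hX⟩ := D.exists_table hodd ψ hψ hψP
  haveI : Fintype (E →* ℂˣ) := Fintype.ofFinite _
  set D1 : Finset (E →* ℂˣ) := Finset.univ.erase 1 with hD1
  set XS := D1.image X with hXS
  have honeX : one ∈ FX := hmemX one 1 one_ne_zero fun y _ _ => by simp [hone]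
  have hθX : θ ∈ FX := hmemX θ (-1) (by norm_num) fun y hy hy1 => by
    rw [hθy y hy hy1]; norm_num
  have hXSmem : ∀ χ ∈ XS, χ ∈ FX ∧ charDegree (χ : G → ℂ) = p + 1 ∧
      (∀ y ∈ Q, y ≠ 1 → (χ : G → ℂ) y = 1) ∧ ∀ g, (χ : G → ℂ) g⁻¹ = (χ : G → ℂ) g := by
    intro χ hχ
    obtain ⟨l, hl, rfl⟩ := Finset.mem_image.1 hχ
    obtain ⟨a, b, c, -⟩ := hX l (Finset.ne_of_mem_erase hl)
    exact ⟨hmemX _ 1 one_ne_zero fun y hy hy1 => by rw [b y hy hy1, Int.cast_one], a, b, c⟩
  have hsg : ∀ χ ∈ FX, ∀ z : ℤ, (χ : G → ℂ) y0 = (z : ℂ) → sg χ = z := fun χ hχ z h => by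
    rw [hXval χ hχ y0 hy0 hy01'] at h
    exact_mod_cast h
  -- weights
  have hwone : Wt p M Q ({one} : Finset (IrrCharacter G)) (1 : E →* ℂˣ) := by
    obtain ⟨l, hl⟩ := exists_wt L hM (hstab one honeX) (c := 1) one_pos fun y _ _ => by
      simp [hone]
    rwa [← wt_triv L hM one (fun g => rfl) hl]
  have hwX : ∀ χ ∈ XS, ∃ l : E →* ℂˣ, Wt p M Q ({χ} : Finset (IrrCharacter G)) l := by
    intro χ hχ
    obtain ⟨hFX, hdeg, hy, -⟩ := hXSmem χ hχ
    exact exists_wt L hM (hstab χ hFX) (c := p + 1) (by omega) fun y hy' hy1 => by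
      rw [Finset.sum_singleton, hy y hy' hy1, mul_one, irr_one_eq_charDegree, hdeg]
  haveI : Nonempty (E →* ℂˣ) := ⟨1⟩
  choose! Λ hΛ using hwX
  have hdne : ∀ χ ∈ XS, χ ≠ one := fun χ hχ h => by
    have h1 := (hXSmem χ hχ).2.1
    have h2 := irr_one_eq_charDegree χ
    rw [h1, h] at h2
    change (1 : ℂ) = _ at h2
    have : (1 : ℕ) = p + 1 := by exact_mod_cast h2
    omega
  have hΛ1 : ∀ χ ∈ XS, Λ χ ≠ 1 := fun χ hχ h =>
    wt_disjoint L hM (hstab one honeX) (Finset.disjoint_singleton.2 (hdne χ hχ).symm) hwone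
      (h ▸ hΛ χ hχ)
  have hii : ∀ l : E →* ℂˣ, l⁻¹⁻¹ = l := fun l => MonoidHom.ext fun x => inv_inv _
  have hreal : ∀ χ ∈ XS, ∀ g, ∑ η ∈ ({χ} : Finset (IrrCharacter G)),
      (η : G → ℂ) 1 * (η : G → ℂ) g⁻¹ = ∑ η ∈ ({χ} : Finset (IrrCharacter G)),
      (η : G → ℂ) 1 * (η : G → ℂ) g := fun χ hχ g => by
    rw [Finset.sum_singleton, Finset.sum_singleton, (hXSmem χ hχ).2.2.2 g]
  have hmix : ∀ χ ∈ XS, ∀ χ' ∈ XS, Λ χ ≠ (Λ χ')⁻¹ := by
    intro χ hχ χ' hχ' h
    by_cases hc : χ = χ'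
    · subst hc
      refine hΛ1 χ hχ (MonoidHom.ext fun x => ?_)
      have h2 : Λ χ x * Λ χ x = 1 := by
        nth_rw 2 [h]; rw [MonoidHom.inv_apply, mul_inv_cancel]
      have h3 : Λ χ x ^ Nat.card E = 1 := by rw [← map_pow, pow_card_eq_one', map_one]
      obtain ⟨j, hj⟩ := hodd
      rw [show Nat.card E = 2 * j + 1 from hj, pow_succ, pow_mul, sq, h2, one_pow, one_mul] at h3
      exact h3
    · exact wt_disjoint_inv L hM (hstab χ' (hXSmem χ' hχ').1)
        (Finset.disjoint_singleton.2 (Ne.symm hc)) (hreal χ' hχ') (hΛ χ' hχ') (h ▸ hΛ χ hχ)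
  have hinj : Set.InjOn Λ XS := fun χ hχ χ' hχ' h => by
    by_contra hne
    exact wt_disjoint L hM (hstab χ (hXSmem χ hχ).1) (Finset.disjoint_singleton.2 hne)
      (hΛ χ hχ) (h ▸ hΛ χ' hχ')
  have hcardD : Fintype.card (E →* ℂˣ) = e := by
    letI : CommGroup E :=
      { (inferInstance : Group E) with
        mul_comm := fun a b => Subtype.ext (D.commE a.2 b.2) }
    haveI : NeZero (Monoid.exponent E : ℂ) :=
      ⟨Nat.cast_ne_zero.mpr Monoid.exponent_ne_zero_of_finite⟩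
    rw [← Nat.card_eq_fintype_card, CommGroup.card_monoidHom_of_hasEnoughRootsOfUnity]
  set W := XS.image Λ ∪ XS.image (fun χ => (Λ χ)⁻¹) with hW
  have hWD : W ⊆ D1 := by
    intro l hl
    refine Finset.mem_erase.2 ⟨fun h => ?_, Finset.mem_univ _⟩
    rcases Finset.mem_union.1 hl with hl | hl <;> obtain ⟨χ, hχ, rfl⟩ := Finset.mem_image.1 hl
    · exact hΛ1 χ hχ h
    · exact hΛ1 χ hχ (inv_eq_one (a := Λ χ) |>.1 h)
  have hWc : W.card = 2 * XS.card := by
    have h1 : (XS.image Λ).card = XS.card := Finset.card_image_of_injOn hinj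
    have h2 : (XS.image fun χ => (Λ χ)⁻¹).card = XS.card :=
      Finset.card_image_of_injOn fun χ hχ χ' hχ' h => hinj hχ hχ' (by
        rw [← hii (Λ χ), ← hii (Λ χ')]; exact congrArg (·⁻¹) h)
    rw [hW, Finset.card_union_of_disjoint, h1, h2, two_mul]
    · rw [Finset.disjoint_left]
      intro l h1 h2
      obtain ⟨χ, hχ, rfl⟩ := Finset.mem_image.1 h1
      obtain ⟨χ', hχ', h⟩ := Finset.mem_image.1 h2
      exact hmix χ hχ χ' hχ' h.symm
  have hD1c : D1.card = e - 1 := by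
    rw [hD1, Finset.card_erase_of_mem (Finset.mem_univ _), Finset.card_univ, hcardD]
  have hfib : D1.card ≤ 2 * XS.card := by
    refine Finset.card_le_mul_card_image D1 2 fun χ hχ => ?_
    obtain ⟨l, hl, rfl⟩ := Finset.mem_image.1 hχ
    refine (Finset.card_le_card (t := ({l, l⁻¹} : Finset (E →* ℂˣ))) fun m hm => ?_).trans
      Finset.card_le_two
    obtain ⟨hm1, hm2⟩ := Finset.mem_filter.1 hm
    rcases (hX l (Finset.ne_of_mem_erase hl)).2.2.2 m (Finset.ne_of_mem_erase hm1) hm2 with h | h <;>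
      simp [h]
  have hWeq : W = D1 := Finset.eq_of_subset_of_card_le hWD (by rw [hWc]; exact hfib)
  set k := XS.card with hk
  have hke : 2 * k + 1 = e := by
    have := hWeq ▸ hWc
    omega
  have hnoPos : ∀ T : Finset (IrrCharacter G), GalStable p T → one ∉ T → (∀ χ ∈ XS, χ ∉ T) →
      ∀ c : ℕ, 0 < c → (∀ y ∈ Q, y ≠ 1 → ∑ χ ∈ T, (χ : G → ℂ) 1 * (χ : G → ℂ) y = (c : ℂ)) →
      False := by
    intro T hT h1 h2 c hc hval
    obtain ⟨l, hl⟩ := exists_wt L hM hT hc hval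
    by_cases hl1 : l = 1
    · exact wt_disjoint L hM (hstab one honeX) (Finset.disjoint_singleton_left.2 h1) hwone
        (hl1 ▸ hl)
    have hlW : l ∈ W := hWeq ▸ Finset.mem_erase.2 ⟨hl1, Finset.mem_univ _⟩
    rcases Finset.mem_union.1 hlW with h | h <;> obtain ⟨χ, hχ, rfl⟩ := Finset.mem_image.1 h
    · exact wt_disjoint L hM (hstab χ (hXSmem χ hχ).1) (Finset.disjoint_singleton_left.2 (h2 χ hχ))
        (hΛ χ hχ) hl
    · exact wt_disjoint_inv L hM (hstab χ (hXSmem χ hχ).1)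
        (Finset.disjoint_singleton_left.2 (h2 χ hχ)) (hreal χ hχ) (hΛ χ hχ) hl
  -- the remaining members of the first family
  set R := FX \ insert one (insert θ XS) with hR
  have hθone : θ ≠ one := fun h => by
    have h1 := hθy y0 hy0 hy01'
    rw [h] at h1
    change (1 : ℂ) = -1 at h1
    norm_num at h1
  have hθXS : θ ∉ XS := fun h => by
    have h1 := (hXSmem θ h).2.2.1 y0 hy0 hy01'
    rw [hθy y0 hy0 hy01'] at h1
    norm_num at h1
  have honeXS : one ∉ XS := fun h => hdne one h rfl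
  have hsub : insert one (insert θ XS) ⊆ FX := by
    intro χ hχ
    simp only [Finset.mem_insert] at hχ
    rcases hχ with rfl | rfl | h
    exacts [honeX, hθX, (hXSmem χ h).1]
  have hins : one ∉ insert θ XS := by simp [honeXS, hθone.symm]
  have hRcard : R.card + 1 = k := by
    rw [hR, Finset.card_sdiff_of_subset hsub, F.cardX, heb, Finset.card_insert_of_notMem hins,
      Finset.card_insert_of_notMem hθXS]
    have hk1 : 1 ≤ k := by omega
    omega
  have hRfacts : ∀ χ ∈ R, sg χ = -1 ∧ (p : ℤ) - 1 ≤ (charDegree (χ : G → ℂ) : ℤ) := by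
    intro χ hχ
    obtain ⟨hχX, hχn⟩ := Finset.mem_sdiff.1 hχ
    simp only [Finset.mem_insert, not_or] at hχn
    have hs : sg χ = -1 := by
      refine (F.signX χ hχX).resolve_left fun h => ?_
      refine hnoPos {χ} (hstab χ hχX) (by simp [Ne.symm hχn.1])
        (fun η hη hmem => hχn.2.2 (Finset.mem_singleton.1 hmem ▸ hη))
        (charDegree (χ : G → ℂ)) (charDegree_pos χ) fun y hy hy1 => ?_
      rw [Finset.sum_singleton, hXval χ hχX y hy hy1, h, Int.cast_one, mul_one,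
        irr_one_eq_charDegree]
    refine ⟨hs, ?_⟩
    obtain ⟨n, hn⟩ := exists_nat_mult Q χ 1
    simp only [MonoidHom.one_apply, Units.val_one, mul_one] at hn
    rw [← Finset.add_sum_erase _ _ (Finset.mem_univ (1 : Q)), Finset.sum_congr rfl fun y hy =>
      show _ = (-1 : ℂ) by
        rw [hXval χ hχX y y.2 (fun h => Finset.ne_of_mem_erase hy (Subtype.ext h)), hs]; norm_num,
      Finset.sum_const, Finset.card_erase_of_mem (Finset.mem_univ _), Finset.card_univ,
      ← Nat.card_eq_fintype_card, D.hP, nsmul_eq_mul, Subgroup.coe_one, irr_one_eq_charDegree,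
      eq_comm, inv_mul_eq_iff_eq_mul₀ (Nat.cast_ne_zero.2 hp.ne_zero), Nat.cast_sub hp.pos,
      Nat.cast_one] at hn
    have h2 : (charDegree (χ : G → ℂ) : ℤ) = (p : ℤ) - 1 + (p : ℤ) * n := by
      have h3 : (charDegree (χ : G → ℂ) : ℂ) = (((p : ℤ) - 1 + (p : ℤ) * n : ℤ) : ℂ) := by
        push_cast; linear_combination hn
      exact_mod_cast h3
    have : (0 : ℤ) ≤ (p : ℤ) * n := mul_nonneg (Int.natCast_nonneg p) (Int.natCast_nonneg n)
    omega
  -- the second family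
  obtain ⟨θY, hθY⟩ := F.nonempty
  set w := charDegree (θY : G → ℂ) with hw
  have hreg : ¬ p ∣ orderOf (1 : G) := by rw [orderOf_one]; exact hp.not_dvd_one
  have hYdeg : ∀ χ ∈ FY, (χ : G → ℂ) 1 = (w : ℂ) := fun χ hχ => by
    rw [Families.agree K F hχ hθY hreg, irr_one_eq_charDegree]
  have hrel := Families.relation K F hθY hreg
  rw [irr_one_eq_charDegree θY, ← hw] at hrel
  have hYsum : ∀ y ∈ Q, y ≠ 1 → ∑ χ ∈ FY, (χ : G → ℂ) y = (δ : ℂ) := by
    intro y hy hy1
    have h : ∑ χ : IrrCharacter G, (χ : G → ℂ) 1 * (χ : G → ℂ) y = 0 := by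
      rw [← column_orth_of_not_isConj (g := y) (h := (1 : G))
        fun hc => hy1 (isConj_one_left.1 hc)]
      exact Finset.sum_congr rfl fun χ _ => by rw [conj_irr_one, mul_comm]
    rw [← Finset.sum_subset (Finset.subset_univ (FX ∪ FY)) fun χ _ hχ => by
        rw [Finset.mem_union, not_or] at hχ
        rw [hout χ hχ.1 hχ.2 y hy hy1, mul_zero],
      Finset.sum_union F.disj,
      Finset.sum_congr rfl fun χ hχ => show _ = (sg χ : ℂ) * (χ : G → ℂ) 1 by
        rw [hXval χ hχ y hy hy1, mul_comm],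
      Finset.sum_congr rfl fun χ (hχ : χ ∈ FY) => show _ = (w : ℂ) * (χ : G → ℂ) y by
        rw [hYdeg χ hχ],
      ← Finset.mul_sum] at h
    refine mul_left_cancel₀ (Nat.cast_ne_zero.2 (charDegree_pos θY).ne' : (w : ℂ) ≠ 0) ?_
    linear_combination h - hrel
  have hδ : δ = -1 := by
    refine F.sign.resolve_left fun h => ?_
    refine hnoPos FY (fun σ hσ χ hχ => F.stableY χ hχ σ hσ)
      (Finset.disjoint_left.1 F.disj honeX)
      (fun χ hχ => Finset.disjoint_left.1 F.disj (hXSmem χ hχ).1) w (charDegree_pos θY)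
      fun y hy hy1 => ?_
    rw [Finset.sum_congr rfl fun χ (hχ : χ ∈ FY) => show _ = (w : ℂ) * (χ : G → ℂ) y by rw [hYdeg χ hχ],
      ← Finset.mul_sum, hYsum y hy hy1, h, Int.cast_one, mul_one]
  have hwle : w ≤ e := by
    have hrelZ : ∑ χ ∈ FX, sg χ * (charDegree (χ : G → ℂ) : ℤ) + δ * (w : ℤ) = 0 := by
      have h := hrel
      simp only [irr_one_eq_charDegree] at h
      exact_mod_cast h
    have hs1 : sg one = 1 := hsg one honeX 1 (by simp [hone])
    have hd1 : charDegree (one : G → ℂ) = 1 := by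
      have h := irr_one_eq_charDegree one
      change (1 : ℂ) = _ at h
      exact_mod_cast h.symm
    have hsθ : sg θ = -1 := hsg θ hθX (-1) (by rw [hθy y0 hy0 hy01']; norm_num)
    have hdθ : (charDegree (θ : G → ℂ) : ℤ) = (p : ℤ) - 1 := by
      have h := irr_one_eq_charDegree θ
      rw [hθ1] at h
      have h2 : ((charDegree (θ : G → ℂ) : ℤ) : ℂ) = (((p : ℤ) - 1 : ℤ) : ℂ) := by
        push_cast; exact h.symm
      exact_mod_cast h2
    rw [← Finset.sum_sdiff hsub, Finset.sum_insert hins, Finset.sum_insert hθXS, ← hR,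
      hs1, hd1, hsθ, hdθ, hδ,
      Finset.sum_congr rfl fun χ (hχ : χ ∈ R) => show _ = -(charDegree (χ : G → ℂ) : ℤ) by
        rw [(hRfacts χ hχ).1]; ring,
      Finset.sum_neg_distrib,
      Finset.sum_congr rfl fun χ (hχ : χ ∈ XS) => show _ = ((p : ℤ) + 1) by
        obtain ⟨hFX, hdeg, hy, -⟩ := hXSmem χ hχ
        rw [hsg χ hFX 1 (by rw [hy y0 hy0 hy01', Int.cast_one]), one_mul, hdeg]
        push_cast; rfl,
      Finset.sum_const, nsmul_eq_mul, ← hk] at hrelZ
    have hRsum : (R.card : ℤ) * ((p : ℤ) - 1) ≤ ∑ χ ∈ R, (charDegree (χ : G → ℂ) : ℤ) := by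
      rw [← nsmul_eq_mul]
      exact Finset.card_nsmul_le_sum R _ _ fun χ hχ => (hRfacts χ hχ).2
    have hRk : (R.card : ℤ) = (k : ℤ) - 1 := by omega
    rw [hRk] at hRsum
    push_cast at hrelZ
    have hek : (e : ℤ) = 2 * k + 1 := by omega
    have : (w : ℤ) ≤ e := by nlinarith
    exact_mod_cast this
  -- faithfulness and the degree
  have hf : ∀ g, (θY : G → ℂ) g = (θY : G → ℂ) 1 → g = 1 := by
    obtain ⟨L', hL', hmem, -⟩ := IsCharacter.exists_kernel (IsIrrCharacter.isCharacter θY.2)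
    rcases hL'.eq_bot_or_eq_top with h | h
    · intro g hg
      have := (hmem g).2 hg
      rwa [h, Subgroup.mem_bot] at this
    · exfalso
      refine hYrat θY hθY (w : ℤ) fun y _ _ => ?_
      rw [(hmem y).1 (h ▸ Subgroup.mem_top y), irr_one_eq_charDegree, Int.cast_natCast]
  have hnn : ∀ H : Subgroup G, H.Normal → Nat.card H ≠ p := by
    intro H hH hc
    rcases hH.eq_bot_or_eq_top with h | h
    · rw [h, Subgroup.card_bot] at hc; omega
    · rw [h, Subgroup.card_top] at hc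
      haveI := isCyclic_of_prime_card hc
      letI := IsCyclic.commGroup (α := G)
      exact D.hnc ⟨⟨fun a b => mul_comm a b⟩⟩
  have hpw : p ≤ 2 * w + 1 := by
    by_contra hlt
    exact hnn Q (DefOne.normal_of_small hp (Nat.card G) G rfl Q D.hP D.hsq _
      (IsIrrCharacter.isCharacter θY.2) hf (by omega)) D.hP
  have hweq : 2 * w + 1 = p := by omega
  obtain ⟨n, ρ, hρirr, hρ⟩ := θY.2
  have hn : n = w := by
    have h1 := irr_one_eq_charDegree θY
    rw [← hρ, Representation.char_one, Module.finrank_fin_fun] at h1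
    rw [hρ] at h1
    exact_mod_cast h1
  have hinjρ : Function.Injective ρ := by
    intro a b hab
    refine inv_mul_eq_one.1 (hf (a⁻¹ * b) ?_) 
    rw [← hρ]
    show LinearMap.trace ℂ _ (ρ (a⁻¹ * b)) = LinearMap.trace ℂ _ (ρ 1)
    rw [map_mul, ← hab, ← map_mul, inv_mul_cancel]
  have hdvd : p ∣ Nat.card G := D.hP ▸ Q.card_subgroup_dvd_card
  obtain ⟨f⟩ := SmallDim.center_quotient_psl hp5 hdvd D.hsq hnn ρ hinjρ (by omega)
  have hcen : Subgroup.center G = ⊥ := by
    rcases (inferInstance : (Subgroup.center G).Normal).eq_bot_or_eq_top with h | h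
    · exact h
    · refine absurd ⟨⟨fun a b => ?_⟩⟩ D.hnc
      exact (Subgroup.mem_center_iff.1 (h ▸ Subgroup.mem_top b) a)
  exact ⟨((QuotientGroup.quotientBot).symm.trans
    (QuotientGroup.quotientMulEquivOfEq hcen.symm)).trans f⟩

end Cfsg.Agent.UniqueDegree
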